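import Cfsg.Agent.Lib.HH.ClassTwo
import Cfsg.Agent.Lib.BG.Rank
import Cfsg.Agent.Lib.FGS.MaxNil
import Cfsg.Agent.Lib.Coprime.FT
import Cfsg.Agent.Lib.PGroup.Holomorph

/-!
# Nilpotent maximal invariant subgroups under coprime action
-/

set_option autoImplicit false

namespace Cfsg.Lib.HH

open Subgroup Cfsg.Lib.BG Cfsg.Lib.Transfer

universe u

section
variable {G : Type*} [Group G] [Finite G] {X P M : Subgroup G} {p : ℕ} [Fact p.Prime]

theorem npc_of_zj (hp : p ≠ 2) (hP : Syl p P X) (hM : X ⊓ 𝐍(centerThompsonOf p P) ≤ M) (hn : Group.IsNilpotent M) :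
    HasNormalPComplement p X := by
  obtain ⟨S, rfl⟩ := Syl.iff_sylow.1 hP
  refine (Agent.S0117.result hp S).2 (hasNormalPComplement_of_isNilpotent (hG := ?_))
  rw [← Core.isNilpotent_map_iff X.subtype_injective, Core.map_subtype_normalizer,
    PLocal.map_centerThompsonOf X.subtype_injective]
  exact nil_of_le hn hM

theorem npc_of_weaklyClosed (hP : Syl p P X) (hPM : P ≤ M) (hMX : M ≤ X) (hM : X ⊓ 𝐍(𝐙(P)) ≤ M) (hn : Group.IsNilpotent M)
    (hw : ∀ g ∈ X, g ⋆ 𝐙(P) ≤ P → g ⋆ 𝐙(P) = 𝐙(P)) : HasNormalPComplement p X := by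
  refine hasNormalPComplement_subgroup_of_controls_fusion hP.pgroup hP.not_dvd' hP.le fun x hx g hg hy => ?_
  have hZ := pgroup_of_le hP.pgroup (inf_le_left (b := 𝐂(P)))
  obtain ⟨R, hR, h1⟩ := Syl.exists_ge hZ (le_inf (inf_le_left.trans hP.le) (inf_le_right.trans (cent_le_cent1 hy)))
  obtain ⟨c, hc, h2⟩ := hR.exists_conj_le ((pgroup_conj g).2 hZ) (le_inf (conj_le_of_mem (inf_le_left.trans hP.le) hg)
    (conj_cent1 g x ▸ conj_mono g (inf_le_right.trans (cent_le_cent1 hx))))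
  obtain ⟨d, hd, h3⟩ := hP.exists_conj_le hR.pgroup (hR.le.trans inf_le_left)
  have h4 := hw d hd ((conj_mono d h1).trans h3)
  have h5 := hw _ (mul_mem hd (mul_mem hc.1 hg)) (by rw [← conj_conj, ← conj_conj]; exact (conj_mono d h2).trans h3)
  rw [← conj_conj, ← h4, conj_inj, h4] at h5
  obtain ⟨n, hn', l, hl, e⟩ := (nil_pcore_dprod hn {p}).mem (hM ⟨mul_mem hc.1 hg, norm_of_conj_eq h5⟩)
  have h6 := (hP.of_le hPM hMX).eq_of_nil hn
  have h7 := mem_cent.1 (cent_symm (nil_pcore_dprod hn {p}).cent hl) x (h6 ▸ hx)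
  refine ⟨n, h6 ▸ hn', ?_⟩
  calc _ = n * l * x * (n * l)⁻¹ := by rw [mul_assoc n l, ← h7]; group
    _ = c * (g * x * g⁻¹) * c⁻¹ := by rw [e]; group
    _ = _ := by rw [mem_cent1.1 hc.2]; group

end

theorem sol_of_max_inv_aux (n : ℕ) : ∀ (G : Type u) [Group G] [Finite G] (X A M S : Subgroup G), Nat.card X = n → A ≤ 𝐍(X) →
    (Nat.card A).Coprime (Nat.card X) → M < X → A ≤ 𝐍(M) → (∀ H, M ≤ H → H ≤ X → A ≤ 𝐍(H) → H = M ∨ H = X) →
    Group.IsNilpotent M → Syl 2 S M → ⁅S, S⁆ ≤ 𝐂(S) → Group.IsSolvable X := by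
  induction n using Nat.strong_induction_on with
  | _ n ih =>
  intro G _ _ X A M S hn hA hco hM hAM hmax hnil hS hc
  by_cases h : ∃ N : Subgroup G, X ≤ 𝐍(N) ∧ A ≤ 𝐍(N) ∧ N ≠ ⊥ ∧ N ≤ M
  · obtain ⟨N, h1, h2, h3, h4⟩ := h
    have n1 : Nml N X := ⟨h4.trans hM.le, h1⟩
    have n2 : Nml N M := ⟨h4, hM.le.trans h1⟩
    have := ih _ (hn ▸ card_quo_mul n1 ▸ lt_mul_of_one_lt_left Nat.card_pos (one_lt_card_iff_ne_bot N |>.2 h3)) _
      (quo X N) (quo A N) (quo M N) (quo S N) rfl (quo_norm hA N) (coprime_quo hco N)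
      ((quo_mono hM.le N).lt_of_ne fun e => hM.ne (quo_inj n2 n1 e)) (quo_norm hAM N) (fun H a b c =>
        (hmax (copre N H) ((le_copre_iff n2.norm).2 a) (copre_le_of_le_quo n1 b) (norm_copre h2 c)).imp
          (fun e => by rw [← e, quo_copre]) fun e => by rw [← e, quo_copre])
      (nil_quo hnil N) (hS.quo n2.norm) (by
        rw [← quo_comm (hS.le.trans n2.norm) (hS.le.trans n2.norm)]; exact quo_cent hc N)
    exact copre_quo_of_le n1.le h1 ▸ sol_copre (nil_sol (nil_of_le hnil h4)) this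
  have key : ∀ N : Subgroup G, N ≠ ⊥ → N ≤ M → M ≤ 𝐍(N) → A ≤ 𝐍(N) → X ⊓ 𝐍(N) = M := fun N a b c d =>
    (hmax _ (le_inf hM.le c) inf_le_left (norm_inf hA (norm_norm d))).resolve_right fun e => h ⟨N, inf_eq_left.1 e, d, a, b⟩
  have inv : ∀ π P, Hall π P M → A ≤ 𝐍(P) := fun π P hP => hAM.trans (hP.norm_le (hP.nml_of_nil hnil).norm)
  have syl : ∀ p : ℕ, p.Prime → p ∣ Nat.card M → ∀ P, Syl p P M → Syl p P X := fun p hp hd P hP => by
    haveI := Fact.mk hp
    exact hP.of_norm_le hM.le (key P (hP.ne_bot' hd) hP.le (hP.nml_of_nil hnil).norm (inv _ P hP)).le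
  have hH : (Nat.card M).Coprime (M.relIndex X) := Nat.coprime_of_dvd fun p hp h1 h2 => by
    haveI := Fact.mk hp
    obtain ⟨P, hP⟩ := Syl.exists (p := p) M
    exact (syl p hp h1 P hP).not_dvd' (h2.trans (relIndex_dvd_left hP.le X))
  obtain ⟨K, _, hK⟩ := exists_normal_complement_of_forall_prime (M.subgroupOf X) (by rwa [subOf_card hM.le]) fun p hp h1 => by
    haveI := Fact.mk hp
    rw [subOf_card hM.le] at h1
    by_cases h2 : p = 2
    · subst h2
      have hP := syl 2 hp h1 S hS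
      have h3 := (hS.nml_of_nil hnil).norm
      have h4 := center_ne_bot_of_nil hS.nil (hS.ne_bot' h1)
      have h5 := key _ h4 (inf_le_left.trans hS.le) (norm_center h3) (norm_center (inv _ S hS))
      have h6 : ⁅S, S⁆ ≤ 𝐙(S) := le_inf (der_le _) hc
      have D := nil_pcore_dprod hnil {2}
      rw [← hS.eq_of_nil hnil] at D
      refine npc_of_weaklyClosed hP hS.le hM.le h5.le hnil fun g hgX hg => ?_
      have h5' : X ⊓ 𝐍(g ⋆ 𝐙(S)) = g ⋆ M := by rw [← h5, conj_inf g X, conj_normalizer, conj_eq_of_mem hgX]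
      refine conj_eq_of_norm (norm_center le_rfl (h3 ?_))
      by_cases hL : 𝐎({2}ᶜ, M) = ⊥
      swap
      · rw [← key _ hL (pcore_le _ _) (pcore_nml _ _).norm (norm_pcore hAM _)]
        have := (nil_pcore_Hall hnil {2}ᶜ).conj g
        exact ⟨hgX, norm_of_conj_eq (eq_of_le_of_card_le (this.ge_of_normal (this.nml_of_nil ((nil_conj g).2 hnil)).norm
          (h5' ▸ le_inf ((pcore_le _ _).trans hM.le) (norm_of_cent (cent_mono (cent_symm D.cent) le_rfl hg)))
          (pcore_pi _ _)) (card_conj g _).le).symm⟩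
      obtain rfl : S = M := by simpa [hL] using D.sup
      have h7 : 𝐙(S) ≤ g ⋆ S := h5' ▸ le_inf (inf_le_left.trans hM.le) (norm_of_cent (cent_mono inf_le_right le_rfl hg))
      have h8 := C2.not_bad (T := 𝐙(S) ⊔ g ⋆ 𝐙(S)) ⟨hP, h6, h5.le, fun x hx hx' => ?_⟩
        (Nat.coprime_two_right.1 (hco.coprime_dvd_right (h1.trans (card_dvd hM.le)))) hA hAM fun U hU hb =>
          hb.2.2 (key U (ne_bot_mono h4 hb.1) hb.2.1 (Nml.of_der_le (h6.trans hb.1) hb.2.1).norm hU).le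
      · simp only [Bad, not_and, not_not] at h8
        rw [← key S (ne_bot_mono h4 inf_le_left) le_rfl h3 hAM]
        exact ⟨hgX, mem_normalizer_of_conj_le ((le_inf (conj_le_of_mem hM.le hgX) (Nml.of_der_le (by
          rw [← conj_commutator]; exact (conj_mono g h6).trans le_sup_right)
          (sup_le h7 (conj_mono g inf_le_left))).norm).trans (h8 le_sup_left (sup_le inf_le_left hg)))⟩
      · rw [← key (omegaOne 2 𝐙(S)) (Ohm1_center_ne_bot hS.pgroup (hS.ne_bot' h1)) ((Ohm1_le _ _).trans inf_le_left) (norm_Ohm1 (norm_center h3) _)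
          (norm_Ohm1 (norm_center hAM) _)]
        refine ⟨hx, cent_le_norm _ ?_⟩
        rw [omegaOne, centralizer_closure]
        exact fun z hz => (hx' z hz.1 (sq z ▸ hz.2)).symm
    obtain ⟨P, hP⟩ := Syl.exists (p := p) M
    exact npc_of_zj h2 (syl p hp h1 _ hP) (key _ (PLocal.centerThompsonOf_ne_bot (.inr rfl) hP.pgroup (hP.ne_bot' h1))
      ((PLocal.centerThompsonOf_le _).trans hP.le)
      ((hP.nml_of_nil hnil).norm.trans (PLocal.normalizer_le_normalizer_centerThompsonOf _))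
      ((inv _ P hP).trans (PLocal.normalizer_le_normalizer_centerThompsonOf _))).le hnil
  have k1 : Nml (K.map X.subtype) X := .of_normal X K
  have k2 : Nat.card (K.map X.subtype) = M.relIndex X := by rw [Core.card_map_subtype, ← hK.index_eq_card]; rfl
  have k3 : (K.map X.subtype).relIndex X = Nat.card M := by
    rw [Core.relIndex_map_subtype, hK.symm.index_eq_card, subOf_card hM.le]
  generalize K.map X.subtype = K at k1 k2 k3
  have k4 := hA.trans ((Hall.of_coprime k1.le (by rw [k2, k3]; exact hH.symm)).norm_le k1.norm)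
  have k5 : (Nat.card ↥(M ⊔ A)).Coprime (Nat.card K) := (Nat.Coprime.mul_left (k2 ▸ hH)
    (hco.coprime_dvd_right (card_dvd k1.le))).coprime_dvd_left (Coprime.card_sup_dvd hAM)
  obtain ⟨q, hq, hd⟩ := Nat.exists_prime_and_dvd (n := Nat.card K) (k2 ▸ fun e => hM.not_ge (relIndex_eq_one.1 e))
  haveI := Fact.mk hq
  obtain ⟨Q, h1, h2⟩ := Syl.exists_inv (p := q) (sup_le (hM.le.trans k1.norm) k4) k5 (Coprime.isSolvable_or_of_coprime k5)
  have h3 := (hmax (M ⊔ Q) le_sup_left (sup_le hM.le (h1.le.trans k1.le)) (norm_sup hAM (le_sup_right.trans h2))).resolve_left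
    fun e => h1.ne_bot' hd (eq_bot_iff.2 (disjoint_of_coprime (k2 ▸ hH) ▸ le_inf (sup_eq_left.1 e) h1.le))
  exact h3 ▸ Core.isSolvable_sup (le_sup_left.trans h2) (nil_sol hnil) (pgroup_sol h1.pgroup)

theorem sol_of_max_inv {G : Type*} [Group G] [Finite G] {X A M S : Subgroup G} (hA : A ≤ 𝐍(X))
    (hc : (Nat.card A).Coprime (Nat.card X)) (hM : M < X) (hAM : A ≤ 𝐍(M))
    (hmax : ∀ H, M ≤ H → H ≤ X → A ≤ 𝐍(H) → H = M ∨ H = X) (hn : Group.IsNilpotent M) (hS : Syl 2 S M)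
    (h2 : ⁅S, S⁆ ≤ 𝐂(S)) : Group.IsSolvable X :=
  sol_of_max_inv_aux _ G X A M S rfl hA hc hM hAM hmax hn hS h2

end Cfsg.Lib.HH
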