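import Cfsg.Agent.Lib.HH.ModCrit
import Cfsg.Agent.Lib.HH.Spec
import Cfsg.Agent.Lib.Perm.Module
import Cfsg.Agent.Lib.Core.PSolvable
import Cfsg.Agent.Lib.Coprime.Sylow

/-!
# Theorem B of Hall and Higman
-/

set_option autoImplicit false

namespace Cfsg.Lib.HH.ModB

open Module LinearMap Subgroup Cfsg.Lib.BG
open scoped TensorProduct

universe u v

variable {K : Type*} [Field K] {p q : ℕ} [hp : Fact p.Prime] [CharP K p] {Q : Type*} [Group Q]

section

variable {V : Type*} [AddCommGroup V] [Module K V] {ρ : Q →* End K V} {S : Type*} [Group S] {τ : S →* End K V}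
  {α : S →* MulAut Q}

/-- Either the commutant of `Q` is trivial, or it contains an element translated by `S`. -/
theorem dich [Finite S] (hS : IsPGroup p S) (hc : ∀ s g, τ s * ρ g = ρ (α s g) * τ s)
    (hI : ∀ c : End K V, (∀ g, ρ g * c = c * ρ g) → (∀ s, τ s * c = c * τ s) → ∃ a : K, c = a • 1) :
    (∀ c : End K V, (∀ g, ρ g * c = c * ρ g) → ∃ a : K, c = a • 1) ∨ ∃ (c : End K V) (l : S → K),
      (∃ s, l s ≠ 0) ∧ ∀ s, τ s * c = c * τ s + l s • τ s := by
  refine or_iff_not_imp_left.2 fun h => ?_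
  have h1 : ∀ s, τ s * τ s⁻¹ = 1 := fun s => by rw [← map_mul, mul_inv_cancel, map_one]
  have h2 : ∀ s, τ s⁻¹ * τ s = 1 := fun s => by rw [← map_mul, inv_mul_cancel, map_one]
  let π : Representation K S (End K V) :=
    { toFun := fun s => mulLeftRight K (τ s, τ s⁻¹)
      map_one' := by ext1; simp
      map_mul' := fun s t => by ext1; simp [mul_assoc] }
  have h3 : ∀ s, (K ∙ (1 : End K V)) ≤ (K ∙ (1 : End K V)).comap (π s) := fun s =>
    (Submodule.span_singleton_le_iff_mem _ _).2 (by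
      show τ s * 1 * τ s⁻¹ ∈ K ∙ (1 : End K V)
      rw [mul_one, h1]; exact Submodule.mem_span_singleton_self _)
  let E : Submodule K (End K V) := Subalgebra.toSubmodule (Subalgebra.centralizer K (Set.range ρ))
  have hE : ∀ c, c ∈ E ↔ ∀ g, ρ g * c = c * ρ g := fun c => Set.forall_mem_range
  obtain ⟨_, ⟨c, hc1, rfl⟩, hc2, hc3⟩ := Perm.exists_fixed_vector hS (π.quotient _ h3)
    (E.map (K ∙ (1 : End K V)).mkQ) (by
      rintro s _ ⟨c, hc', rfl⟩
      refine ⟨π s c, (hE _).2 fun g => ?_, rfl⟩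
      show ρ g * (τ s * c * τ s⁻¹) = τ s * c * τ s⁻¹ * ρ g
      rw [mul_assoc _ (τ s⁻¹), hc, ← mul_assoc, ← mul_assoc, ← mul_assoc, mul_assoc (τ s), ← (hE c).1 hc', ← mul_assoc,
        hc, ← MulAut.mul_apply, ← map_mul, mul_inv_cancel, map_one, MulAut.one_apply]) fun e => h fun c hc' => by
      obtain ⟨a, ha⟩ := Submodule.mem_span_singleton.1 ((Submodule.Quotient.mk_eq_zero _).1
        (e.le (Submodule.mem_map_of_mem ((hE c).2 hc'))))
      exact ⟨a, ha.symm⟩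
  have h4 : ∀ s, ∃ a : K, τ s * c = c * τ s + a • τ s := fun s => by
    obtain ⟨a, ha⟩ := Submodule.mem_span_singleton.1 ((Submodule.Quotient.eq _).1 (hc3 s))
    refine ⟨a, ?_⟩
    have : τ s * c * τ s⁻¹ = c + a • 1 := by rw [ha, add_sub_cancel]; rfl
    rw [← mul_one (τ s * c), ← h2 s, ← mul_assoc, this, add_mul, smul_mul_assoc, one_mul]
  choose l hl using h4
  refine ⟨c, l, by_contra fun e => hc2 ?_, hl⟩
  obtain ⟨a, rfl⟩ := hI c ((hE c).1 hc1) fun s => by rw [hl, of_not_not (not_exists.1 e s), zero_smul, add_zero]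
  exact (Submodule.Quotient.mk_eq_zero _).2 (Submodule.smul_mem _ _ (Submodule.mem_span_singleton_self _))

omit hp [CharP K p] in
theorem sub_one_pow_mul {T c : End K V} {a : K} (h : T * c = c * T + a • T) (r : ℕ) :
    (T - 1) ^ (r + 1) * c = c * (T - 1) ^ (r + 1) + ((r + 1 : ℕ) * a : K) • ((T - 1) ^ r * T) := by
  have h1 : (T - 1) * c = c * (T - 1) + a • T := by rw [sub_mul, mul_sub, h, one_mul, mul_one]; abel
  induction r with
  | zero => simpa using h1
  | succ r ih =>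
    rw [pow_succ _ (r + 1), mul_assoc, h1, mul_add, ← mul_assoc, ih, add_mul, mul_assoc c, add_assoc, smul_mul_assoc,
      mul_assoc _ T, ((Commute.refl T).sub_right (Commute.one_right T)).eq, ← mul_assoc (_ ^ r), ← pow_succ, ← pow_succ, mul_smul_comm,
      ← add_smul]
    push_cast; ring_nf

theorem exists_div [Nontrivial V] {T c : End K V} (hT : IsUnit T) {a : K} (ha : a ≠ 0) (h : T * c = c * T + a • T)
    {r : ℕ} (hr : (T - 1) ^ r = 0) : ∃ r', 0 < r' ∧ p * r' ≤ r ∧ (T ^ p - 1) ^ r' = 0 := by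
  induction r with
  | zero => exact absurd hr one_ne_zero
  | succ r ih =>
    by_cases e : p ∣ r + 1
    · obtain ⟨r', e⟩ := e
      refine ⟨r', Nat.pos_of_ne_zero fun e' => by simp [e'] at e, e.ge, ?_⟩
      rwa [e, pow_mul, ← pow_one p, sub_one_pow_pow K, pow_one] at hr
    have := sub_one_pow_mul h r
    rw [hr, zero_mul, mul_zero, zero_add, eq_comm, smul_eq_zero, hT.mul_left_eq_zero] at this
    obtain ⟨r', h1, h2, h3⟩ := ih (this.resolve_left (mul_ne_zero (mt (CharP.cast_eq_zero_iff K p _).1 e) ha))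
    exact ⟨r', h1, h2.trans r.le_succ, h3⟩

omit hp [CharP K p] in
theorem res_pow {T : End K V} {W : Submodule K V} (h : ∀ w ∈ W, T w ∈ W) {r : ℕ} (hr : (T - 1) ^ r = 0) :
    ((T.restrict h : End K W) - 1) ^ r = 0 := by
  have : ∀ (k : ℕ) (u : W), ((((T.restrict h : End K W) - 1) ^ k) u : V) = ((T - 1) ^ k) u := fun k => by
    induction k with
    | zero => exact fun _ => rfl
    | succ k ih => intro u; rw [pow_succ, pow_succ, End.mul_apply, ih]; rfl
  exact LinearMap.ext fun u => Subtype.ext (by rw [this, hr]; rfl)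

omit hp [CharP K p] in
/-- Passage to a subspace irreducible for `Q` and `S` together. -/
theorem exists_sub [FiniteDimensional K V] {W : Submodule K V} (hW : W ≠ ⊥) (h1 : ∀ g, ∀ w ∈ W, ρ g w ∈ W)
    (h2 : ∀ s, ∀ w ∈ W, τ s w ∈ W) : ∃ U ≤ W, U ≠ ⊥ ∧ ∃ (h1 : ∀ g, U ≤ U.comap (ρ g)) (h2 : ∀ s, U ≤ U.comap (τ s)),
      Irr (Sum.elim (Representation.subrepresentation ρ U h1) (Representation.subrepresentation τ U h2)) := by
  obtain ⟨U, hU, h0, h, hI⟩ := exists_irr (Sum.elim ρ τ) hW (by rintro (_ | _); exacts [h1 _, h2 _])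
  exact ⟨U, hU, h0, fun g => h (.inl g), fun s => h (.inr s), fun X hX => hI X (by
    rintro (i | i); exacts [hX (.inl i), hX (.inr i)])⟩

omit hp [CharP K p] in
/-- The subspace `[V, Q]`. -/
theorem exists_nofix [Finite Q] (hQ : (Nat.card Q : K) ≠ 0) (hc : ∀ s g, τ s * ρ g = ρ (α s g) * τ s)
    (h : ∃ g, ρ g ≠ 1) : ∃ W : Submodule K V, W ≠ ⊥ ∧ (∀ g, ∀ w ∈ W, ρ g w ∈ W) ∧ (∀ s, ∀ w ∈ W, τ s w ∈ W) ∧
      ∀ w ∈ W, (∀ g, ρ g w = w) → w = 0 := by
  have := Fintype.ofFinite Q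
  have h1 : ∀ h, (∑ g, ρ g) * ρ h = ∑ g, ρ g := fun h => by
    rw [Finset.sum_mul]; exact Fintype.sum_equiv (Equiv.mulRight h) _ _ fun g => (map_mul ρ g h).symm
  obtain ⟨g, hg⟩ := h
  refine ⟨ker (∑ g, ρ g), fun e => hg (LinearMap.ext fun v => ker_eq_bot.1 e ?_), fun h w hw => ?_, fun s w hw => ?_,
    fun w hw h => ?_⟩
  · rw [← End.mul_apply, h1, End.one_apply]
  · rwa [mem_ker, ← End.mul_apply, h1]
  · rw [mem_ker, ← End.mul_apply, ← (α s).sum_comp, Finset.sum_mul]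
    simp only [MulEquiv.toEquiv_eq_coe, EquivLike.coe_coe, ← hc]
    rw [← Finset.mul_sum, End.mul_apply, mem_ker.1 hw, map_zero]
  · rw [mem_ker, LinearMap.sum_apply, Finset.sum_congr rfl fun g _ => h g, Finset.sum_const, Finset.card_univ,
      ← Nat.card_eq_fintype_card, ← Nat.cast_smul_eq_nsmul K] at hw
    exact (smul_eq_zero.1 hw).resolve_left hQ

theorem card_ne_zero [hq : Fact q.Prime] [Finite Q] (hQ : IsPGroup q Q) (hpq : q ≠ p) : (Nat.card Q : K) ≠ 0 := by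
  obtain ⟨k, hk⟩ := hQ.exists_card_eq
  rw [hk, Ne, CharP.cast_eq_zero_iff K p]
  exact fun h => hpq ((Nat.prime_dvd_prime_iff_eq hp.1 hq.1).1 (hp.1.dvd_of_dvd_pow h)).symm

omit hp [CharP K p] in
theorem irr_of_schur [Finite Q] (hQ : (Nat.card Q : K) ≠ 0)
    (hS : ∀ c : End K V, (∀ g, ρ g * c = c * ρ g) → ∃ a : K, c = a • 1) : Irr ρ := fun W hW => by
  have := Fintype.ofFinite Q
  obtain ⟨W', h⟩ := W.exists_isCompl
  let e : End K V := W.subtype ∘ₗ W.linearProjOfIsCompl W' h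
  obtain ⟨a, ha⟩ := hS (∑ g, ρ g * e * ρ g⁻¹) fun h => by
    rw [Finset.mul_sum, Finset.sum_mul]
    refine Fintype.sum_equiv (Equiv.mulLeft h) _ _ fun g => ?_
    simp only [Equiv.coe_mulLeft, map_mul, mul_assoc, mul_inv_rev]
    rw [← map_mul ρ h⁻¹, inv_mul_cancel, map_one, mul_one]
  refine or_iff_not_imp_left.2 fun h0 => eq_top_iff.2 fun v _ => ?_
  obtain ⟨w, hw, h0⟩ := (Submodule.ne_bot_iff W).1 h0
  have h1 : a • w = (Nat.card Q : K) • w := by
    rw [← End.one_apply (R := K) w, ← LinearMap.smul_apply, ← ha, LinearMap.sum_apply, End.one_apply,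
      Nat.cast_smul_eq_nsmul, Nat.card_eq_fintype_card, ← Finset.card_univ, ← Finset.sum_const]
    refine Finset.sum_congr rfl fun g _ => ?_
    rw [End.mul_apply, End.mul_apply, show e (ρ g⁻¹ w) = ρ g⁻¹ w from
      congrArg W.subtype (Submodule.linearProjOfIsCompl_apply_left h ⟨_, hW _ w hw⟩), ← End.mul_apply, ← map_mul,
      mul_inv_cancel, map_one, End.one_apply]
  rw [← W.smul_mem_iff hQ, ← smul_left_injective K h0 h1, ← End.one_apply (R := K) v, ← LinearMap.smul_apply, ← ha,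
    LinearMap.sum_apply]
  exact W.sum_mem fun g _ => hW _ _ (Submodule.coe_mem _)

/-- The critical case, with the arithmetic conclusions. -/
theorem crit' [IsAlgClosed K] [FiniteDimensional K V] [Fact q.Prime] [Finite Q] (hQ : IsPGroup q Q) (hpq : q ≠ p)
    (hS : ∀ c : End K V, (∀ g, ρ g * c = c * ρ g) → ∃ a : K, c = a • 1) {α : MulAut Q} {T : End K V} {n : ℕ}
    (hα : α ^ p ^ (n + 1) = 1) (hT : T ^ p ^ (n + 1) = 1) (hc : ∀ g, T * ρ g = ρ (α g) * T)
    (hf : ∀ g, (α ^ p ^ n) g = g → g ∈ center Q) (h1 : T ≠ 1) {s : ℕ} (hs : (T - 1) ^ s = 0) :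
    p ^ (n + 1) ≤ s + 1 ∧ ¬ IsMulCommutative Q ∧
      (s + 1 = p ^ (n + 1) → finrank K V = s ∧ ∃ m, 1 ≤ m ∧ s = q ^ m) := by
  haveI : Nontrivial V := not_subsingleton_iff_nontrivial.1 fun _ => h1 (Subsingleton.elim _ _)
  have h0 := card_ne_zero (K := K) hQ hpq
  have hI := irr_of_schur h0 hS
  obtain ⟨h2, h3⟩ := crit h0 hS hα hT hc (fun g hg => hS _ fun h => by
    rw [← map_mul, mem_center_iff.1 (hf g hg), map_mul]) h1 hs
  have h4 : finrank K V ≠ 1 := fun e => h1 (sub_eq_zero.1 (by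
    simpa [(IsNilpotent.mk _ _ hs).charpoly_eq_X_pow_finrank, e] using (T - 1).aeval_self_charpoly))
  refine ⟨h2, fun _ => h4 (hI.finrank_eq_one fun g => hS _ fun h => by rw [← map_mul, mul_comm' h, map_mul]),
    fun e => ⟨h3 e, ?_⟩⟩
  obtain ⟨m, hm⟩ := qpow _ Q rfl hQ V ρ hI
  exact ⟨m, Nat.pos_of_ne_zero fun e => h4 (by rw [hm, e, pow_zero]), (h3 e).symm.trans hm⟩

end

/-- Theorem B for a `q`-group extended by a cyclic `p`-group. -/
theorem core [IsAlgClosed K] [Fact q.Prime] [Finite Q] (hQ : IsPGroup q Q) (hpq : q ≠ p) {β : MulAut Q}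
    (hβ : ∀ g, β g = g → g ∈ center Q) (hβ' : ∀ N : Subgroup Q, (∀ g, g⁻¹ * β g ∈ N) → N = ⊤) (n : ℕ) :
    ∀ (S : Type u) [Group S] [Finite S] (V : Type v) [AddCommGroup V] [Module K V] [FiniteDimensional K V]
      [Nontrivial V] (ρ : Q →* End K V) (τ : S →* End K V) (α : S →* MulAut Q) (x : S) (r : ℕ),
      (∀ s g, τ s * ρ g = ρ (α s g) * τ s) → x ^ p ^ (n + 1) = 1 → α x ^ p ^ n = β →
      (∀ v, (∀ g, ρ g v = v) → v = 0) → (τ x - 1) ^ r = 0 → p ^ (n + 1) ≤ r ∨ ∃ n₀ m, 1 ≤ n₀ ∧ n₀ ≤ n + 1 ∧ 1 ≤ m ∧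
        p ^ n₀ - 1 = q ^ m ∧ ¬ IsMulCommutative Q ∧ p ^ (n + 1 - n₀) * (p ^ n₀ - 1) ≤ r := by
  induction n using Nat.strong_induction_on with | _ n ih => ?_
  intro S _ _ V _ _ _ _ ρ τ α x r hc hx hxβ h0 hr
  obtain ⟨U, -, hU, h1, h2, hI⟩ := exists_sub (ρ := ρ) (τ := τ.comp (zpowers x).subtype) (W := ⊤) top_ne_bot
    (fun _ _ _ => trivial) fun _ _ _ => trivial
  haveI := Submodule.nontrivial_iff_ne_bot.2 hU
  set ρ' := Representation.subrepresentation ρ U h1
  set τ' := Representation.subrepresentation (τ.comp (zpowers x).subtype) U h2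
  let α' := α.comp (zpowers x).subtype
  let y : zpowers x := ⟨x, mem_zpowers x⟩
  have hy : y ^ p ^ (n + 1) = 1 := Subtype.ext hx
  have hc' : ∀ s g, τ' s * ρ' g = ρ' (α' s g) * τ' s := fun s g =>
    LinearMap.ext fun u => Subtype.ext (LinearMap.congr_fun (hc s g) u)
  have h0' : ∀ v, (∀ g, ρ' g v = v) → v = 0 := fun v hv => Subtype.ext (h0 v fun g => congrArg Subtype.val (hv g))
  have hr' : (τ' y - 1) ^ r = 0 := res_pow (h2 y) hr
  have hyp : ∀ s : zpowers x, ∃ i : ℕ, y ^ i = s := fun s => by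
    obtain ⟨i, hi⟩ := mem_powers_iff_mem_zpowers.2 s.2
    exact ⟨i, Subtype.ext hi⟩
  rcases dich (p := p) (fun s => by
      obtain ⟨i, rfl⟩ := hyp s
      exact ⟨n + 1, by rw [← pow_mul, mul_comm, pow_mul, hy, one_pow]⟩) hc'
    (fun c h h' => hI.schur (by rintro (_ | _); exacts [h _, h' _])) with hS | ⟨c, l, ⟨s, hs⟩, hl⟩
  · obtain ⟨h3, h4, h5⟩ := crit' hQ hpq hS (α := α x) (n := n) (by rw [← map_pow, hx, map_one])
      (by rw [← map_pow, hy, map_one]) (hc' y) (hxβ ▸ hβ) (fun e => by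
        obtain ⟨v, hv⟩ := exists_ne (0 : U)
        refine hv (h0' v fun g => ?_)
        rw [show ρ' g = 1 from (hβ' ρ'.ker fun g => ?_).ge trivial, End.one_apply]
        have := hc' (y ^ p ^ n) g
        rw [map_pow, e, one_pow, one_mul, mul_one, map_pow] at this
        rw [MonoidHom.mem_ker, map_mul, ← hxβ]
        erw [← this]
        rw [← map_mul, inv_mul_cancel, map_one]) hr'
    refine h3.eq_or_lt.symm.imp Nat.le_of_lt_succ fun e => ?_
    obtain ⟨-, m, h6, h7⟩ := h5 e.symm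
    exact ⟨n + 1, m, by omega, le_rfl, h6, by omega, h4, by simp [e]⟩
  have hly : l y ≠ 0 := fun e => hs (by
    obtain ⟨i, rfl⟩ := hyp s
    have h3 : Commute (τ' y) c := by rw [Commute, SemiconjBy, hl, e, zero_smul, add_zero]
    have h4 := hl (y ^ i)
    rw [map_pow, (h3.pow_left i).eq, left_eq_add, smul_eq_zero, ← map_pow] at h4
    exact h4.resolve_right ((Group.isUnit _).map τ').ne_zero)
  obtain ⟨r', h3, h4, h5⟩ := exists_div (p := p) ((Group.isUnit y).map τ') hly (hl y) hr'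
  rcases n with _ | n
  · exact .inl (by rw [zero_add, pow_one]; exact (Nat.le_mul_of_pos_right p h3).trans h4)
  refine (ih n n.lt_succ_self _ U ρ' τ' α' (y ^ p) r' hc' (by rw [← pow_mul, ← pow_succ', hy])
    (by rw [map_pow, ← pow_mul, ← pow_succ', ← hxβ]; rfl) h0' (by rwa [map_pow])).imp (fun h => ?_) ?_
  · rw [pow_succ']; exact (Nat.mul_le_mul_left p h).trans h4
  · rintro ⟨n₀, m, h6, h7, h8, h9, h10, h11⟩
    refine ⟨n₀, m, h6, h7.trans (Nat.le_succ _), h8, h9, h10, ?_⟩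
    rw [Nat.succ_sub h7, pow_succ', mul_assoc]
    exact (Nat.mul_le_mul_left p h11).trans h4

variable {G : Type u} [Group G] [Finite G]

omit [CharP K p] in
/-- The minimal `q`-subgroup not centralized by a central element `y` of the `p`-subgroup `A`. -/
theorem exists_Q (hs : IsPSolvable p G) (h0 : pCore p G = ⊥) {A : Subgroup G} (hA : IsPGroup p A) {y : G} (hy : y ∈ A)
    (hy1 : y ≠ 1) (hAy : A ≤ 𝐂[y]) : ∃ (q : ℕ) (Q : Subgroup G) (h : A ≤ 𝐍(Q)), q.Prime ∧ q ≠ p ∧ IsPGroup q Q ∧ Q ≠ ⊥ ∧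
      (∀ g, Q.normalizerMonoidHom ⟨y, h hy⟩ g = g → g ∈ center Q) ∧
      ∀ N : Subgroup Q, (∀ g, g⁻¹ * Q.normalizerMonoidHom ⟨y, h hy⟩ g ∈ N) → N = ⊤ := by
  have hc := Core.pPrimeCore_coprime p G
  have hB : zpowers y ≤ A := zpowers_le_of_mem hy
  have h1 : ¬ pPrimeCore p G ≤ 𝐂(zpowers y) := fun h => hy1 (zpowers_eq_bot.1 (Core.eq_bot_of_isPGroup_of_coprime
    (hA.to_le hB) (Core.coprime_of_le ((cent_symm h).trans (Core.centralizer_pPrimeCore_le_of_isPSolvable hs h0)) hc)))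
  obtain ⟨q, P, hq, hP, hPq, hn, h2⟩ : ∃ (q : ℕ) (P : Subgroup G), q.Prime ∧ P ≤ pPrimeCore p G ∧ IsPGroup q P ∧
      A ≤ 𝐍(P) ∧ ¬ P ≤ 𝐂(zpowers y) := by
    by_contra! h
    exact h1 (Coprime.le_of_forall_invariant_pgroup_le le_normalizer_of_normal (Core.coprime_card_of_isPGroup hA hc)
      (.inl (pgroup_sol hA)) fun q P hq hP hPq _ hn => h q P hq hP hPq hn)
  haveI := Fact.mk hq
  have h3 := Core.coprime_card_of_isPGroup (hA.to_le hB) (Core.coprime_of_le hP hc)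
  have hAB : A ≤ 𝐍(zpowers y) := norm_of_cent (by rwa [zpowers_eq_closure, centralizer_closure])
  obtain ⟨Q, h4, h5, h6, h7, h8⟩ := exists_spec hPq hn hB hAB h3 fun e => h2 (cent_symm e)
  have h9 := coprime_mono h3 le_rfl h4
  refine ⟨q, Q, h5, hq, fun e => h2 ?_, hPq.to_le h4, fun e => h6 (by simp [e]), fun g hg => ?_, fun N hN => ?_⟩
  · subst e
    rw [Core.eq_bot_of_isPGroup_of_coprime hPq (Core.coprime_of_le hP hc)]; exact bot_le
  · refine h8.elim (fun _ => mem_center_iff.2 fun h => mul_comm' h g) fun h => mem_center_iff.2 fun a =>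
      Subtype.ext ((h.cent.le ⟨g.2, ?_⟩).2 a a.2)
    show (g : G) ∈ 𝐂(zpowers y)
    rw [zpowers_eq_closure, centralizer_closure, mem_centralizer_singleton_iff]
    exact (mul_inv_eq_iff_eq_mul.1 (congrArg Subtype.val hg)).symm
  · have h10 : ⁅Q, zpowers y⁆ = Q := by_contra fun e => h6 (stable_factor_cent le_rfl (cent_symm
      (h7 _ ((comm_le_left (hB.trans h5)).lt_of_ne e) (norm_comm h5 hAB))) (coprime_mono h9 le_rfl
        (comm_le_left (hB.trans h5))))
    have h11 : ∀ (i : ℕ) (g : Q), g⁻¹ * (Q.normalizerMonoidHom ⟨y, h5 hy⟩ ^ i) g ∈ N := fun i g => by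
      induction i with
      | zero => simp
      | succ i ih => simpa [pow_succ', mul_assoc] using N.mul_mem ih (hN ((Q.normalizerMonoidHom ⟨y, h5 hy⟩ ^ i) g))
    refine map_injective Q.subtype_injective (le_antisymm (map_mono le_top) ?_)
    rw [← MonoidHom.range_eq_map, range_subtype]
    refine h10.ge.trans (commutator_le.2 fun g hg b hb => ?_)
    obtain ⟨i, rfl⟩ := mem_powers_iff_mem_zpowers.2 hb
    refine ⟨_, h11 i ⟨g, hg⟩⁻¹, ?_⟩
    rw [← map_pow]
    show g⁻¹⁻¹ * (y ^ i * g⁻¹ * (y ^ i)⁻¹) = _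
    rw [inv_inv, commutatorElement_def, mul_assoc g, mul_assoc g]

omit hp in
theorem exists_closure (F : Type u) (V : Type v) [Field F] [CharP F p] [AddCommGroup V] [Module F V]
    [FiniteDimensional F V] : ∃ (K : Type u) (_ : Field K) (_ : CharP K p) (_ : IsAlgClosed K) (W : Type (max u v))
      (_ : AddCommGroup W) (_ : Module K W) (_ : FiniteDimensional K W) (φ : End F V →+* End K W),
      Function.Injective φ :=
  ⟨AlgebraicClosure F, inferInstance, inferInstance, inferInstance, AlgebraicClosure F ⊗[F] V, inferInstance,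
    inferInstance, inferInstance, (End.baseChangeHom F (AlgebraicClosure F) V).toRingHom,
    LinearMap.baseChangeHom_injective F V _⟩

/-- Theorem B of Hall and Higman. -/
theorem thmB {F V : Type*} [Field F] [CharP F p] [AddCommGroup V] [Module F V] [FiniteDimensional F V] [Nontrivial V]
    {ρ : G →* End F V} (hρ : Function.Injective ρ) (hs : IsPSolvable p G) (h0 : pCore p G = ⊥) {x : G} {n r : ℕ}
    (hx : orderOf x = p ^ n) (hr : (ρ x - 1) ^ r = 0) : p ^ n ≤ r ∨ ∃ n₀ q m : ℕ, 1 ≤ n₀ ∧ n₀ ≤ n ∧ q.Prime ∧ 1 ≤ m ∧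
      p ^ n₀ - 1 = q ^ m ∧ (∀ Q : Sylow q G, ¬ IsMulCommutative Q) ∧ p ^ (n - n₀) * (p ^ n₀ - 1) ≤ r := by
  rcases n with _ | n
  · exact .inl (Nat.pos_of_ne_zero fun e => by simp [e] at hr)
  have h1 : x ^ p ^ (n + 1) = 1 := hx ▸ pow_orderOf_eq_one x
  obtain ⟨q, Q, h, hq, hqp, hQ, hQ0, h2, h3⟩ := exists_Q hs h0 (A := zpowers x)
    (IsPGroup.of_card ((Nat.card_zpowers x).trans hx)) (npow_mem_zpowers x (p ^ n))
    (pow_ne_one_of_lt_orderOf (pow_ne_zero _ hp.1.ne_zero) (hx ▸ Nat.pow_lt_pow_right hp.1.one_lt n.lt_succ_self))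
    (zpowers_le_of_mem (mem_centralizer_singleton_iff.2 (Commute.self_pow x _)))
  haveI := Fact.mk hq
  obtain ⟨K, _, _, _, V', _, _, _, φ, hφ⟩ := exists_closure (p := p) F V
  obtain ⟨σ, hσ, hr⟩ : ∃ σ : G →* End K V', Function.Injective σ ∧ (σ x - 1) ^ r = 0 :=
    ⟨φ.toMonoidHom.comp ρ, hφ.comp hρ, by simpa using congrArg φ hr⟩
  let α := Q.normalizerMonoidHom.comp (inclusion h)
  have hc : ∀ s g, σ.comp (zpowers x).subtype s * σ.comp Q.subtype g =
      σ.comp Q.subtype (α s g) * σ.comp (zpowers x).subtype s := fun s g => by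
    exact (σ.map_mul _ _).symm.trans ((congrArg σ (inv_mul_cancel_right _ _).symm).trans (σ.map_mul _ _))
  obtain ⟨W, hW, h4, h5, h6⟩ := exists_nofix (card_ne_zero hQ hqp) hc (by
    obtain ⟨g, hg⟩ := (nontrivial_iff_exists_ne_one Q).1 ((nontrivial_iff_ne_bot Q).2 hQ0)
    exact ⟨⟨g, hg.1⟩, fun e => hg.2 (hσ (e.trans σ.map_one.symm))⟩)
  haveI := Submodule.nontrivial_iff_ne_bot.2 hW
  refine (core hQ hqp h2 h3 n _ W (Representation.subrepresentation _ W h4) (Representation.subrepresentation _ W h5)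
    α ⟨x, mem_zpowers x⟩ r (fun s g => LinearMap.ext fun u => Subtype.ext (LinearMap.congr_fun (hc s g) u))
    (Subtype.ext h1) (by rw [← map_pow]; rfl) (fun v hv => Subtype.ext (h6 v v.2 fun g => congrArg Subtype.val (hv g)))
    (res_pow (h5 _) hr)).imp_right ?_
  rintro ⟨n₀, m, h7, h8, h9, h10, h11, h12⟩
  refine ⟨n₀, q, m, h7, h8, hq, h9, h10, fun P hP => h11 ?_, h12⟩
  obtain ⟨g, hg⟩ := Transfer.exists_conj_le_sylow P hQ
  exact (abelian_conj g).1 (abelian_of_le hP hg)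

end Cfsg.Lib.HH.ModB
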