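import Cfsg.Agent.Lib.HH.Misc
import Cfsg.Agent.Lib.Core.Subnormal
import Cfsg.Agent.Lib.Core.PCore

/-! Casolo's count of the subnormalizer of a `p`-subgroup. -/

set_option autoImplicit false

namespace Cfsg.Lib.HH

open Subgroup Cfsg.Lib Cfsg.Lib.BG Cfsg.Lib.Transfer
open scoped Classical

section Mob

variable {α : Type*} [PartialOrder α]

theorem exists_mob (A : Finset α) :
    ∃ c : α → ℤ, ∀ a ∈ A, ∑ b ∈ A with a ≤ b, c b = 1 := by
  induction A using Finset.strongInduction with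
  | H A ih =>
    rcases A.eq_empty_or_nonempty with rfl | hne
    · exact ⟨0, by simp⟩
    obtain ⟨a0, ha0⟩ := A.exists_minimal hne
    obtain ⟨c, hc⟩ := ih (A.erase a0) (Finset.erase_ssubset ha0.1)
    refine ⟨Function.update c a0 (1 - ∑ b ∈ A.erase a0 with a0 ≤ b, c b), fun a ha => ?_⟩
    by_cases h : a = a0
    · subst h
      have : A.filter (a ≤ ·) = insert a ((A.erase a).filter (a ≤ ·)) := by
        ext b
        simp only [Finset.mem_filter, Finset.mem_insert, Finset.mem_erase]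
        constructor
        · rintro ⟨h1, h2⟩
          by_cases e : b = a
          · exact Or.inl e
          · exact Or.inr ⟨⟨e, h1⟩, h2⟩
        · rintro (rfl | ⟨⟨-, h1⟩, h2⟩)
          · exact ⟨ha, le_rfl⟩
          · exact ⟨h1, h2⟩
      rw [this, Finset.sum_insert (by simp), Function.update_self,
        Finset.sum_congr rfl (f := Function.update c a _) (g := c)]
      · ring
      · intro b hb
        exact Function.update_of_ne (Finset.mem_erase.1 (Finset.mem_filter.1 hb).1).1 _ _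
    · rw [← hc a (Finset.mem_erase.2 ⟨h, ha⟩)]
      have : A.filter (a ≤ ·) = (A.erase a0).filter (a ≤ ·) := by
        ext b
        simp only [Finset.mem_filter, Finset.mem_erase]
        constructor
        · rintro ⟨h1, h2⟩
          refine ⟨⟨?_, h1⟩, h2⟩
          rintro rfl
          exact h (le_antisymm h2 (ha0.2 ha h2))
        · rintro ⟨⟨-, h1⟩, h2⟩
          exact ⟨h1, h2⟩
      rw [this]
      refine Finset.sum_congr rfl fun b hb => ?_
      exact Function.update_of_ne (Finset.mem_erase.1 (Finset.mem_filter.1 hb).1).1 _ _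

theorem sum_filter_le_split (A : Finset α) (c : α → ℤ) {a : α} (ha : a ∈ A) :
    ∑ b ∈ A with a ≤ b, c b = c a + ∑ b ∈ A with a < b, c b := by
  have : A.filter (a ≤ ·) = insert a (A.filter (a < ·)) := by
    ext b
    simp only [Finset.mem_filter, Finset.mem_insert]
    constructor
    · rintro ⟨h1, h2⟩
      rcases h2.eq_or_lt with e | e
      · exact Or.inl e.symm
      · exact Or.inr ⟨h1, e⟩
    · rintro (rfl | ⟨h1, h2⟩)
      · exact ⟨ha, le_rfl⟩
      · exact ⟨h1, h2.le⟩
  rw [this, Finset.sum_insert (by simp)]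

theorem mob_unique [WellFoundedGT α] (A : Finset α) {c d : α → ℤ} {a0 : α}
    (hc : ∀ a ∈ A, a0 ≤ a → ∑ b ∈ A with a ≤ b, c b = 1)
    (hd : ∀ a ∈ A, a0 ≤ a → ∑ b ∈ A with a ≤ b, d b = 1) :
    ∀ a ∈ A, a0 ≤ a → c a = d a := by
  intro a
  induction a using WellFoundedGT.induction with
  | ind a ih =>
    intro ha h0
    have h1 := hc a ha h0
    have h2 := hd a ha h0
    rw [sum_filter_le_split A _ ha] at h1 h2
    have : ∑ b ∈ A with a < b, c b = ∑ b ∈ A with a < b, d b :=
      Finset.sum_congr rfl fun b hb =>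
        ih b (Finset.mem_filter.1 hb).2 (Finset.mem_filter.1 hb).1 (h0.trans (Finset.mem_filter.1 hb).2.le)
    omega

end Mob

variable {G : Type*} [Group G]

/-- For a `p`-subgroup `H`: subnormal in `⟨H, g⟩` iff inside a `g`-invariant `p`-subgroup. -/
theorem subn_iff [Finite G] {p : ℕ} [Fact p.Prime] {H : Subgroup G} (hH : IsPGroup p H) (g : G) :
    (H.subgroupOf (H ⊔ zpowers g)).IsSubnormal ↔ ∃ R : Subgroup G, IsPGroup p R ∧ H ≤ R ∧ g ∈ 𝐍(R) := by
  constructor
  · intro h
    exact ⟨_, Core.pCoreOf_isPGroup p _, Core.le_pCoreOf_of_isSubnormal le_sup_left h hH,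
      Core.le_normalizer_pCoreOf p _ (mem_sup_right (mem_zpowers g))⟩
  · rintro ⟨R, hR, hle, hg⟩
    have hX : H ⊔ zpowers g ≤ 𝐍(R) := sup_le (le_norm_of_le hle) (zpowers_le.2 hg)
    apply Core.isSubnormal_of_le_pCore (p := p)
    rw [← Core.pCoreOf_subgroupOf_self]
    apply subgroupOf_mono
    refine le_trans (le_inf hle le_sup_left) (Core.le_pCoreOf inf_le_right
      (norm_inf hX (le_norm _)) (pgroup_of_le hR inf_le_left))

/-- Counting the elements `x ∈ X` by the conjugate `x ⋆ A`. -/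
theorem card_filter_conj [Fintype G] [Fintype (Subgroup G)] (X A : Subgroup G) (q : Subgroup G → Prop) :
    (Finset.univ.filter fun x : G => x ∈ X ∧ q (x ⋆ A)).card =
      ∑ K ∈ Finset.univ.filter (fun K : Subgroup G => q K ∧ ∃ g ∈ X, K = g ⋆ A),
        Nat.card ↥(X ⊓ 𝐍(K)) := by
  rw [Finset.card_eq_sum_card_fiberwise (f := fun x : G => x ⋆ A)
    (t := Finset.univ.filter (fun K : Subgroup G => q K ∧ ∃ g ∈ X, K = g ⋆ A))]
  · refine Finset.sum_congr rfl fun K hK => ?_
    obtain ⟨hq, y, hy, rfl⟩ := (Finset.mem_filter.1 hK).2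
    rw [Nat.card_eq_fintype_card, Fintype.card_subtype]
    refine Finset.card_bij (fun x _ => x * y⁻¹) ?_ ?_ ?_
    · intro x hx
      simp only [Finset.mem_filter, Finset.mem_univ, true_and] at hx ⊢
      refine ⟨X.mul_mem hx.1.1 (X.inv_mem hy), norm_of_conj_eq ?_⟩
      rw [conj_conj, inv_mul_cancel_right, hx.2]
    · intro a _ b _ h
      exact mul_right_cancel h
    · intro z hz
      simp only [Finset.mem_filter, Finset.mem_univ, true_and] at hz ⊢
      have e : (z * y) ⋆ A = y ⋆ A := by rw [← conj_conj, conj_eq_of_norm hz.2]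
      exact ⟨z * y, ⟨⟨X.mul_mem hz.1 hy, e ▸ hq⟩, e⟩, by group⟩
  · intro x hx
    simp only [Finset.coe_filter, Finset.mem_univ, true_and, Set.mem_setOf_eq] at hx ⊢
    exact ⟨hx.2, x, hx.1, rfl⟩

theorem card_conj_pred [Finite G] (A : Subgroup G) (q : Subgroup G → Prop) :
    Nat.card {x : G // q (x ⋆ A)} =
      Nat.card {K : Subgroup G // q K ∧ ∃ g : G, K = g ⋆ A} * Nat.card 𝐍(A) := by
  cases nonempty_fintype G
  cases nonempty_fintype (Subgroup G)
  have := card_filter_conj ⊤ A q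
  simp only [mem_top, true_and, top_inf_eq] at this
  rw [Nat.card_eq_fintype_card, Fintype.card_subtype, this, Nat.card_eq_fintype_card (α := {K // _}),
    Fintype.card_subtype, Finset.sum_congr rfl (g := fun _ => Nat.card 𝐍(A)), Finset.sum_const,
    smul_eq_mul]
  intro K hK
  obtain ⟨-, g, rfl⟩ := (Finset.mem_filter.1 hK).2
  rw [← conj_normalizer, card_conj]

section Casolo

variable [Fintype G] [Fintype (Subgroup G)] (p : ℕ)

/-- the `g`-invariant `p`-subgroups of `X` -/
noncomputable def invP (X : Subgroup G) (g : G) : Finset (Subgroup G) :=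
  Finset.univ.filter fun R => IsPGroup p R ∧ R ≤ X ∧ g ∈ 𝐍(R)

/-- the Möbius weight on `invP p X g` -/
noncomputable def mobP (X : Subgroup G) (g : G) : Subgroup G → ℤ := (exists_mob (invP p X g)).choose

variable {p}

omit [Fintype G] in
theorem mem_invP {X R : Subgroup G} {g : G} : R ∈ invP p X g ↔ IsPGroup p R ∧ R ≤ X ∧ g ∈ 𝐍(R) := by
  simp [invP]

omit [Fintype G] in
theorem mobP_spec {X R : Subgroup G} {g : G} (h : R ∈ invP p X g) :
    ∑ T ∈ invP p X g with R ≤ T, mobP p X g T = 1 :=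
  (exists_mob (invP p X g)).choose_spec R h

theorem mobP_norm [Fact p.Prime] {X R : Subgroup G} {g : G} (h : R ∈ invP p X g) :
    mobP p (X ⊓ 𝐍(R)) g R = mobP p X g R := by
  obtain ⟨hR, hRX, hg⟩ := mem_invP.1 h
  have hRN : R ∈ invP p (X ⊓ 𝐍(R)) g := mem_invP.2 ⟨hR, le_inf hRX (le_norm R), hg⟩
  have key := mob_unique (invP p (X ⊓ 𝐍(R)) g) (a0 := R) (c := mobP p (X ⊓ 𝐍(R)) g)
    (d := fun U => ∑ T ∈ invP p X g with T ⊓ 𝐍(R) = U, mobP p X g T)
    (fun a ha _ => mobP_spec ha) ?_ R hRN le_rfl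
  · rw [key]
    rw [Finset.sum_eq_single R]
    · intro T hT hne
      exfalso
      obtain ⟨hT, e⟩ := Finset.mem_filter.1 hT
      have hle : R ≤ T := e ▸ inf_le_left
      have := lt_inf_normalizer_of_lt (mem_invP.1 hT).1 (lt_of_le_of_ne hle hne.symm)
      exact this.ne e.symm
    · intro hn
      exfalso
      exact hn (Finset.mem_filter.2 ⟨h, inf_eq_left.2 (le_norm R)⟩)
  · intro U hU hRU
    obtain ⟨hUp, hUN, hgU⟩ := mem_invP.1 hU
    rw [← mobP_spec (X := X) (R := U) (g := g) (mem_invP.2 ⟨hUp, hUN.trans inf_le_left, hgU⟩)]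
    rw [← Finset.sum_fiberwise_of_maps_to (s := (invP p X g).filter (U ≤ ·))
      (t := (invP p (X ⊓ 𝐍(R)) g).filter (U ≤ ·)) (g := fun T => T ⊓ 𝐍(R))]
    · refine Finset.sum_congr rfl fun V hV => Finset.sum_congr ?_ fun _ _ => rfl
      ext T
      simp only [Finset.mem_filter]
      constructor
      · rintro ⟨h1, h2⟩
        exact ⟨⟨h1, (Finset.mem_filter.1 hV).2.trans (h2 ▸ inf_le_left)⟩, h2⟩
      · rintro ⟨⟨h1, -⟩, h2⟩
        exact ⟨h1, h2⟩
    · intro T hT
      obtain ⟨hT, hUT⟩ := Finset.mem_filter.1 hT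
      obtain ⟨hTp, hTX, hgT⟩ := mem_invP.1 hT
      refine Finset.mem_filter.2 ⟨mem_invP.2 ⟨pgroup_of_le hTp inf_le_left,
        inf_le_inf_right _ hTX, ?_⟩, le_inf hUT (hUN.trans inf_le_right)⟩
      exact zpowers_le.1 (norm_inf (zpowers_le.2 hgT) (norm_norm (zpowers_le.2 hg)))

theorem sum_mobP (X H : Subgroup G) (g : G) :
    ∑ T ∈ invP p X g with H ≤ T, mobP p X g T =
      if ∃ R ∈ invP p X g, H ≤ R then 1 else 0 := by
  split_ifs with h
  · obtain ⟨R, hR⟩ := ((invP p X g).filter (H ≤ ·)).exists_minimal (by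
      obtain ⟨R, h1, h2⟩ := h
      exact ⟨R, Finset.mem_filter.2 ⟨h1, h2⟩⟩)
    obtain ⟨hR1, hR2⟩ := Finset.mem_filter.1 hR.1
    rw [← mobP_spec hR1]
    refine Finset.sum_congr ?_ fun _ _ => rfl
    ext T
    simp only [Finset.mem_filter]
    refine and_congr_right fun hT => ⟨fun hHT => ?_, fun h => hR2.trans h⟩
    have hm : R ⊓ T ∈ (invP p X g).filter (H ≤ ·) := by
      refine Finset.mem_filter.2 ⟨mem_invP.2 ⟨pgroup_of_le (mem_invP.1 hR1).1 inf_le_left,
        inf_le_left.trans (mem_invP.1 hR1).2.1, ?_⟩, le_inf hR2 hHT⟩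
      exact zpowers_le.1 (norm_inf (zpowers_le.2 (mem_invP.1 hR1).2.2) (zpowers_le.2 (mem_invP.1 hT).2.2))
    exact (hR.2 hm inf_le_left).trans inf_le_right
  · refine Finset.sum_eq_zero fun T hT => ?_
    exact absurd ⟨T, (Finset.mem_filter.1 hT).1, (Finset.mem_filter.1 hT).2⟩ h

theorem count_eq_sum (X H : Subgroup G) :
    ((Finset.univ.filter fun g : G => g ∈ X ∧ ∃ R ∈ invP p X g, H ≤ R).card : ℤ) =
      ∑ R ∈ Finset.univ.filter (fun R : Subgroup G => IsPGroup p R ∧ R ≤ X ∧ H ≤ R),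
        ∑ g ∈ Finset.univ.filter (fun g : G => g ∈ X ⊓ 𝐍(R)), mobP p X g R := by
  rw [Finset.sum_comm' (t' := Finset.univ.filter (fun g : G => g ∈ X))
    (s' := fun g => (invP p X g).filter (H ≤ ·))]
  · rw [Finset.sum_congr rfl fun g _ => sum_mobP X H g, Finset.sum_boole, Finset.filter_filter]
  · intro R g
    simp only [Finset.mem_filter, Finset.mem_univ, true_and, mem_invP, mem_inf]
    tauto

theorem sum_syl_norm [Fact p.Prime] {X P : Subgroup G} (hP : Syl p P X) (H : Subgroup G) :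
    (Finset.univ.filter fun x : G => x ∈ X ∧ H ≤ x ⋆ P).card =
      ∑ Q ∈ Finset.univ.filter (fun Q : Subgroup G => Syl p Q X ∧ H ≤ Q), Nat.card ↥(X ⊓ 𝐍(Q)) := by
  rw [card_filter_conj X P (H ≤ ·)]
  refine Finset.sum_congr ?_ fun _ _ => rfl
  ext Q
  simp only [Finset.mem_filter, Finset.mem_univ, true_and]
  constructor
  · rintro ⟨h, g, hg, rfl⟩
    exact ⟨hP.conj_of_mem hg, h⟩
  · rintro ⟨h1, h2⟩
    exact ⟨h2, Syl.exists_conj_eq hP h1⟩

theorem sum_mobP_norm [Fact p.Prime] (R : Subgroup G) : ∀ X : Subgroup G, IsPGroup p R → R ≤ X →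
    ∑ g ∈ Finset.univ.filter (fun g : G => g ∈ X ⊓ 𝐍(R)), mobP p X g R =
      if Syl p R X then (Nat.card ↥(X ⊓ 𝐍(R)) : ℤ) else 0 := by
  induction R using WellFoundedGT.induction with
  | ind R ih =>
    intro X hR hRX
    split_ifs with hs
    · rw [Nat.card_eq_fintype_card, Fintype.card_subtype, Finset.card_eq_sum_ones]
      push_cast
      refine Finset.sum_congr rfl fun g hg => ?_
      have hm : R ∈ invP p X g := mem_invP.2 ⟨hR, hRX, (Finset.mem_filter.1 hg).2.2⟩
      have := mobP_spec hm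
      rw [sum_filter_le_split _ _ hm, Finset.sum_eq_zero, add_zero] at this
      · exact this
      · intro T hT
        obtain ⟨hT, hlt⟩ := Finset.mem_filter.1 hT
        exact absurd (Syl.eq_of_le_pgroup hs hlt.le (mem_invP.1 hT).2.1 (mem_invP.1 hT).1) hlt.ne
    · set N := X ⊓ 𝐍(R) with hN
      have hRN : R ≤ N := le_inf hRX (le_norm R)
      have e1 : ∑ g ∈ Finset.univ.filter (fun g : G => g ∈ N), mobP p X g R =
          ∑ g ∈ Finset.univ.filter (fun g : G => g ∈ N ⊓ 𝐍(R)), mobP p N g R := by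
        rw [show N ⊓ 𝐍(R) = N from inf_eq_left.2 inf_le_right]
        refine Finset.sum_congr rfl fun g hg => ?_
        exact (mobP_norm (mem_invP.2 ⟨hR, hRX, (Finset.mem_filter.1 hg).2.2⟩)).symm
      rw [e1]
      have h2 := count_eq_sum (p := p) N R
      obtain ⟨P, hP⟩ := Syl.exists (p := p) N
      have h3 := sum_syl_norm hP R
      have hl : (Finset.univ.filter fun g : G => g ∈ N ∧ ∃ T ∈ invP p N g, R ≤ T) =
          Finset.univ.filter fun x : G => x ∈ N ∧ R ≤ x ⋆ P := by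
        ext g
        simp only [Finset.mem_filter, Finset.mem_univ, true_and]
        refine and_congr_right fun hg => iff_of_true ⟨R, mem_invP.2 ⟨hR, hRN, hg.2⟩, le_rfl⟩ ?_
        exact Syl.ge_of_norm_p (hP.conj_of_mem hg) hRN hR ((hP.conj_of_mem hg).le.trans inf_le_right)
      rw [hl, h3] at h2
      have hsplit : Finset.univ.filter (fun T : Subgroup G => IsPGroup p T ∧ T ≤ N ∧ R ≤ T) =
          insert R (Finset.univ.filter (fun T : Subgroup G => IsPGroup p T ∧ T ≤ N ∧ R < T)) := by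
        ext T
        simp only [Finset.mem_filter, Finset.mem_univ, true_and, Finset.mem_insert]
        constructor
        · rintro ⟨h1, h2, h3⟩
          rcases h3.eq_or_lt with e | e
          · exact Or.inl e.symm
          · exact Or.inr ⟨h1, h2, e⟩
        · rintro (rfl | ⟨h1, h2, h3⟩)
          · exact ⟨hR, hRN, le_rfl⟩
          · exact ⟨h1, h2, h3.le⟩
      rw [hsplit, Finset.sum_insert (by simp),
        Finset.sum_congr rfl (s₁ := Finset.univ.filter (fun T : Subgroup G => IsPGroup p T ∧ T ≤ N ∧ R < T))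
          (fun T hT => ih T (Finset.mem_filter.1 hT).2.2.2 N (Finset.mem_filter.1 hT).2.1
            (Finset.mem_filter.1 hT).2.2.1), ← Finset.sum_filter, Finset.filter_filter] at h2
      have hset : Finset.univ.filter (fun T : Subgroup G => (IsPGroup p T ∧ T ≤ N ∧ R < T) ∧ Syl p T N) =
          Finset.univ.filter (fun Q : Subgroup G => Syl p Q N ∧ R ≤ Q) := by
        ext T
        simp only [Finset.mem_filter, Finset.mem_univ, true_and]
        constructor
        · rintro ⟨⟨-, -, h1⟩, h2⟩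
          exact ⟨h2, h1.le⟩
        · rintro ⟨h1, h2⟩
          refine ⟨⟨h1.pgroup, h1.le, lt_of_le_of_ne h2 ?_⟩, h1⟩
          rintro rfl
          exact hs (Syl.of_norm h1)
      rw [hset] at h2
      push_cast at h2
      omega

end Casolo

/-- Casolo: the subnormalizer of a `p`-subgroup `H` has as many elements as `{x | H ≤ x P x⁻¹}`. -/
theorem casolo [Finite G] {p : ℕ} [Fact p.Prime] {H P : Subgroup G} (hH : IsPGroup p H)
    (hP : Syl p P ⊤) :
    Nat.card {g : G // (H.subgroupOf (H ⊔ zpowers g)).IsSubnormal} = Nat.card {x : G // H ≤ x ⋆ P} := by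
  cases nonempty_fintype G
  cases nonempty_fintype (Subgroup G)
  have h2 := count_eq_sum (p := p) ⊤ H
  have h3 := sum_syl_norm hP H
  rw [Finset.sum_congr rfl (fun T hT => sum_mobP_norm T ⊤ (Finset.mem_filter.1 hT).2.1 le_top),
    ← Finset.sum_filter, Finset.filter_filter] at h2
  have hset : Finset.univ.filter (fun T : Subgroup G => (IsPGroup p T ∧ T ≤ ⊤ ∧ H ≤ T) ∧ Syl p T ⊤) =
      Finset.univ.filter (fun Q : Subgroup G => Syl p Q ⊤ ∧ H ≤ Q) := by
    ext T
    simp only [Finset.mem_filter, Finset.mem_univ, true_and]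
    exact ⟨fun h => ⟨h.2, h.1.2.2⟩, fun h => ⟨⟨h.1.pgroup, le_top, h.2⟩, h.1⟩⟩
  rw [hset] at h2
  rw [Nat.card_eq_fintype_card, Fintype.card_subtype, Nat.card_eq_fintype_card, Fintype.card_subtype]
  have h4 : ((Finset.univ.filter fun g : G => g ∈ (⊤ : Subgroup G) ∧ ∃ R ∈ invP p ⊤ g, H ≤ R).card : ℤ) =
      (Finset.univ.filter fun x : G => x ∈ (⊤ : Subgroup G) ∧ H ≤ x ⋆ P).card := by
    rw [h2, h3]; push_cast; rfl
  have h5 := Int.ofNat_inj.1 h4
  convert h5 using 2
  · ext g
    simp only [Finset.mem_filter, Finset.mem_univ, true_and, mem_top, subn_iff hH, mem_invP, le_top]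
    exact ⟨fun ⟨R, a, b, c⟩ => ⟨R, ⟨a, c⟩, b⟩, fun ⟨R, ⟨a, c⟩, b⟩ => ⟨R, a, b, c⟩⟩
  · ext g
    simp only [Finset.mem_filter, Finset.mem_univ, true_and, mem_top]

end Cfsg.Lib.HH
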