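import Cfsg.Agent.Lib.BG.Quo

/-!
# Overgroups of a self-normalizing Sylow 2-subgroup of class two
-/

set_option autoImplicit false

namespace Cfsg.Lib.HH

open Subgroup Cfsg.Lib.BG Cfsg.Lib.Transfer
open scoped commutatorElement

theorem eq_of_ti_exp_two {Q : Type*} [Group Q] [Finite Q] {P H : Subgroup Q} (hPH : P ≤ H) (hne : ¬ H ≤ P)
    (h2 : ∀ x ∈ P, x * x = 1) (hti : ∀ h ∈ H, ∀ x ∈ P, x ≠ 1 → h * x * h⁻¹ ∈ P → h ∈ P) {s t : Q} (hs : s ∈ P) (hs1 : s ≠ 1)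
    (ht : t ∈ P) (ht1 : t ≠ 1) : s = t := by
  obtain ⟨h, hh, hn⟩ := SetLike.not_le_iff_exists.1 hne
  have inv : ∀ x ∈ P, x⁻¹ = x := fun x hx => inv_eq_of_mul_eq_one_right (h2 x hx)
  obtain ⟨u, hu⟩ : ∃ u, u = h * t * h⁻¹ := ⟨_, rfl⟩
  have uH : u ∈ H := hu ▸ mul_mem (mul_mem hh (hPH ht)) (inv_mem hh)
  have u2 : u⁻¹ = u := by rw [hu, conj_inv, inv t ht]
  have gH : ∀ k : ℕ, (s * u) ^ k ∈ H := fun k => pow_mem (mul_mem (hPH hs) uH) k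
  have e1 : ∀ k : ℕ, u * (s * u) ^ k * u⁻¹ = ((s * u) ^ k)⁻¹ := fun k => by
    rw [← conj_pow, ← inv_pow, ← mul_assoc, mul_inv_cancel_right, mul_inv_rev, u2, inv s hs]
  have e2 : ∀ k : ℕ, s * (s * u) ^ k * s⁻¹ = ((s * u) ^ k)⁻¹ := fun k => by
    rw [← conj_pow, ← inv_pow, mul_inv_rev, u2, ← mul_assoc, h2 s hs, one_mul]
  have h0 := pow_orderOf_eq_one (s * u)
  obtain ⟨m, hm | hm⟩ := Nat.even_or_odd' (orderOf (s * u))
  · have hm0 : m ≠ 0 := fun e => (orderOf_pos (s * u)).ne' (by simp [hm, e])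
    have v1 : (s * u) ^ m ≠ 1 := pow_ne_one_of_lt_orderOf hm0 (by omega)
    rw [hm, two_mul, pow_add] at h0
    have v2 := inv_eq_of_mul_eq_one_right h0
    have e1 := (e1 m).trans v2
    have e2 := (e2 m).trans v2
    have gH := gH m
    generalize (s * u) ^ m = v at v1 e1 e2 gH
    rw [mul_inv_eq_iff_eq_mul] at e1 e2
    have a1 := hti v gH s hs hs1 (by rwa [← e2, mul_inv_cancel_right])
    have a2 := hti (h⁻¹ * v * h) (mul_mem (mul_mem (inv_mem hh) gH) hh) t ht ht1 (by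
      rwa [show h⁻¹ * v * h * t * (h⁻¹ * v * h)⁻¹ = h⁻¹ * (v * u) * v⁻¹ * h by rw [hu]; group, ← e1,
        show h⁻¹ * (u * v) * v⁻¹ * h = t by rw [hu]; group])
    exact (hn (by simpa using inv_mem (hti h⁻¹ (inv_mem hh) v a1 v1 (by simpa using a2)))).elim
  · have e3 : (s * u) ^ (m + 1) * h * t * ((s * u) ^ (m + 1) * h)⁻¹ = s := by
      have e4 : (s * u) ^ (m + 1) * (s * u) ^ (m + 1) = s * u := by
        rw [← pow_add, show m + 1 + (m + 1) = 2 * m + 1 + 1 by ring, pow_succ, ← hm, h0, one_mul]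
      have e5 := e1 (m + 1)
      generalize (s * u) ^ (m + 1) = y at e4 e5
      calc _ = y * (u * y * u⁻¹)⁻¹ * u := by rw [show y * (u * y * u⁻¹)⁻¹ * u = y * u * y⁻¹ by group, hu]; group
        _ = s := by rw [e5, inv_inv, e4, mul_assoc, mul_eq_one_iff_inv_eq.2 u2, mul_one]
    have := hti _ (mul_mem (gH (m + 1)) hh) t ht ht1 (e3.symm ▸ hs)
    generalize (s * u) ^ (m + 1) * h = y at e3 this
    rw [← e3, ← inv _ (mul_mem this ht), mul_inv_rev, inv t ht, inv y this, mul_assoc, h2 y this, mul_one]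

variable {G : Type*} [Group G] [Finite G] {X P T T' T'' : Subgroup G}

/-- A Sylow 2-subgroup `P` of class at most two containing the normalizer of `Z(P)` and the centralizer of `Ω₁ Z(P)`. -/
structure C2 (X P : Subgroup G) : Prop where
  syl : Syl 2 P X
  cls : ⁅P, P⁆ ≤ 𝐙(P)
  nZ : X ⊓ 𝐍(𝐙(P)) ≤ P
  cΩ : ∀ x ∈ X, (∀ z ∈ 𝐙(P), z * z = 1 → x * z = z * x) → x ∈ P

/-- Subgroups between `Z(P)` and `P` whose normalizer is not in `P`. -/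
def Bad (X P T : Subgroup G) : Prop := 𝐙(P) ≤ T ∧ T ≤ P ∧ ¬ X ⊓ 𝐍(T) ≤ P

/-- Maximal `Bad` subgroups. -/
structure MaxBad (X P T : Subgroup G) : Prop where
  c2 : C2 X P
  bad : Bad X P T
  max : ∀ U, Bad X P U → T ≤ U → U = T

namespace MaxBad

theorem le (h : MaxBad X P T) : T ≤ P := h.bad.2.1

theorem le_H (h : MaxBad X P T) : P ≤ X ⊓ 𝐍(T) := le_inf h.c2.syl.le (Nml.of_der_le (h.c2.cls.trans h.bad.1) h.le).norm

theorem Z_le (h : MaxBad X P T) : 𝐙(P) ≤ 𝐙(T) := le_inf h.bad.1 (inf_le_right.trans (cent_anti h.le))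

theorem nP (h : MaxBad X P T) : X ⊓ 𝐍(P) ≤ P := (inf_le_inf_left _ (norm_center le_rfl)).trans h.c2.nZ

theorem ti (h : MaxBad X P T) {g x : G} (hg : g ∈ X ⊓ 𝐍(T)) (hn : g ∉ P) (hx : x ∈ P) (hx' : g⁻¹ * x * g ∈ P) : x ∈ T := by
  have e := conj_eq_of_norm hg.2
  have h1 : T ≤ P ⊓ g ⋆ P := le_inf h.le (e ▸ conj_mono g h.le)
  refine h.max _ ⟨h.bad.1.trans h1, inf_le_left, fun h2 => hn (h.nP ⟨hg.1, mem_normalizer_of_conj_le (le_trans (le_inf ?_ ?_) h2)⟩)⟩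
    h1 ▸ ⟨hx, mem_conj.2 hx'⟩
  · exact conj_le_of_mem h.c2.syl.le hg.1
  · refine (Nml.of_der_le (le_trans ?_ h1) inf_le_right).norm
    rw [← conj_commutator, ← e]; exact conj_mono g (h.c2.cls.trans h.bad.1)

theorem ind (h : MaxBad X P T) {S : Subgroup G} (hS : ∀ g ∈ X ⊓ 𝐍(T), g ⋆ P ≤ S) : X ⊓ 𝐍(T) ≤ S := by
  set H := X ⊓ 𝐍(T)
  have h1 : P ≤ H ⊓ ⨅ g : H, g.1 ⋆ S := le_inf h.le_H (le_iInf fun g => le_conj_iff_inv_conj_le.2 (hS _ g⁻¹.2))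
  have h2 := Syl.frattini ((h.c2.syl.of_le h.le_H inf_le_left).of_le h1 inf_le_left) ⟨inf_le_left, le_norm_iff.2 fun a ha x hx =>
    mem_inf.2 ⟨mul_mem (mul_mem ha hx.1) (inv_mem ha), (mem_iInf (S := fun g : H => g.1 ⋆ S)).2 fun g => mem_conj.2 <| by
      simpa [mul_assoc] using mem_conj.1 ((mem_iInf (S := fun g : H => g.1 ⋆ S)).1 hx.2 ⟨_, mul_mem (inv_mem ha) g.2⟩)⟩⟩
  refine h2.ge.trans (sup_le (inf_le_right.trans ((iInf_le _ 1).trans (conj_one S).le)) ?_)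
  exact ((inf_le_inf_right _ inf_le_left).trans h.nP).trans ((conj_one P).ge.trans (hS 1 (one_mem _)))

theorem comm_le (h : MaxBad X P T) {U V : Subgroup G} (hU : X ⊓ 𝐍(T) ≤ 𝐍(U)) (hV : X ⊓ 𝐍(T) ≤ 𝐍(V)) (hUV : U ≤ 𝐍(V))
    (hc : ⁅P, U⁆ ≤ V) : ⁅X ⊓ 𝐍(T), U⁆ ≤ V := by
  refine (quo_le_cent_iff hV hUV).1 ((le_copre_iff hV).1 (h.ind fun g hg => ?_))
  have := (conj_le_of_mem h.le_H hg).trans hV
  rw [le_copre_iff this, quo_le_cent_iff this hUV, ← conj_eq_of_norm (hU hg), ← conj_commutator, ← conj_eq_of_norm (hV hg)]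
  exact conj_mono g hc

theorem comm_mem (h : MaxBad X P T) {g t : G} (hg : g ∈ X ⊓ 𝐍(T)) (ht : t ∈ T) : g * t * g⁻¹ * t⁻¹ ∈ 𝐙(T) :=
  h.comm_le inf_le_right (norm_center inf_le_right) (norm_center (le_norm T))
    ((comm_le_der le_rfl h.le).trans (h.c2.cls.trans h.Z_le)) (comm_mem_comm hg ht)

theorem mem_of_cent (h : MaxBad X P T) {x : G} (hx : x ∈ X) (hc : ∀ w ∈ 𝐙(T), w * w = 1 → x * w = w * x) : x ∈ T := by
  obtain ⟨g, hg, hn⟩ := SetLike.not_le_iff_exists.1 h.bad.2.2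
  refine h.ti hg hn (h.c2.cΩ x hx fun z hz => hc z (h.Z_le hz)) (h.c2.cΩ _ (mul_mem (mul_mem (inv_mem hg.1) hx) hg.1)
    fun z hz h2 => ?_)
  have := hc _ (conj_mem_of_norm (norm_center le_rfl hg.2) (h.Z_le hz)) (by rw [conj_mul, h2]; simp)
  calc _ = g⁻¹ * (x * (g * z * g⁻¹)) * g := by group
    _ = _ := by rw [this]; group

theorem sq_mem (h : MaxBad X P T) {x : G} (hx : x ∈ P) : x * x ∈ T := by
  refine h.mem_of_cent (h.c2.syl.le (mul_mem hx hx)) fun w hw h2 => ?_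
  have hc := mem_cent.1 (h.c2.cls (comm_mem_comm hx (h.le hw.1))).2
  have h1 := hc x hx
  have h3 := hc w (h.le hw.1)
  have h4 : x * w * x⁻¹ * (x * w * x⁻¹) = 1 := by rw [conj_mul, h2]; simp
  obtain ⟨c, e⟩ : ∃ c, x * w * x⁻¹ * w⁻¹ = c := ⟨_, rfl⟩
  rw [e] at h1 h3
  rw [mul_inv_eq_iff_eq_mul] at e
  rw [e, ← mul_assoc, mul_assoc c, h3, ← mul_assoc, mul_assoc, h2, mul_one] at h4
  rw [mul_inv_eq_iff_eq_mul] at e
  rw [mul_assoc, e, ← mul_assoc, ← mul_assoc, h1, mul_assoc c, e, ← mul_assoc, ← mul_assoc, h4, one_mul, mul_assoc]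

theorem half (h : MaxBad X P T) {s t : G} (hs : s ∈ P) (hs' : s ∉ T) (ht : t ∈ P) (ht' : t ∉ T) : s⁻¹ * t ∈ T := by
  have hP := h.le_H.trans inf_le_right
  have e : ∀ x : 𝐍(T), qhom T x = 1 ↔ x.1 ∈ T := fun x => by rw [← MonoidHom.mem_ker, qhom_ker, mem_subgroupOf]
  have m : ∀ x : 𝐍(T), qhom T x ∈ quo P T → x.1 ∈ P := fun x hx =>
    copre_quo_of_le h.le hP ▸ mem_copre.2 ⟨x.2, hx⟩
  have := eq_of_ti_exp_two (quo_mono h.le_H T) (mt (quo_le_quo_iff' inf_le_right ⟨h.le, hP⟩).1 h.bad.2.2)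
    (s := qhom T ⟨s, hP hs⟩) (t := qhom T ⟨t, hP ht⟩) ?_ ?_ (mem_quo.2 ⟨_, hs, rfl⟩) (mt (e _).1 hs') (mem_quo.2 ⟨_, ht, rfl⟩)
    (mt (e _).1 ht')
  · exact (e (⟨s, hP hs⟩⁻¹ * ⟨t, hP ht⟩)).1 (by rw [map_mul, map_inv, this, inv_mul_cancel])
  · intro y hy
    obtain ⟨x, hx, rfl⟩ := mem_quo.1 hy
    exact map_mul (qhom T) x x ▸ (e _).2 (h.sq_mem hx)
  · intro g' hg' y hy h1 h2
    obtain ⟨x, hx, rfl⟩ := mem_quo.1 hy
    obtain ⟨g, hg, rfl⟩ := mem_quo.1 hg'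
    refine mem_quo.2 ⟨g, by_contra fun hn => h1 ((e _).2 ?_), rfl⟩
    exact h.ti (inv_mem hg) (mt (inv_mem_iff.1) hn) hx (by simpa using m (g * x * g⁻¹) (by simpa using h2))

/-- The commutator map `Z(T) / Z(P) × P / T → P` takes the single nontrivial value `z`. -/
structure Tv (P T : Subgroup G) (z : G) : Prop where
  ne : z ≠ 1
  mem : z ∈ 𝐙(P)
  sq : z * z = 1
  half : ∀ v ∈ 𝐙(T), v ∉ 𝐙(P) → ∀ w ∈ 𝐙(T), w ∉ 𝐙(P) → v⁻¹ * w ∈ 𝐙(P)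
  eq : ∀ w ∈ 𝐙(T), w ∉ 𝐙(P) → ∀ x ∈ P, x ∉ T → w * x * w⁻¹ * x⁻¹ = z

theorem mem_Z (h : MaxBad X P T) {a b w : G} (ha : a ∈ 𝐙(T)) (hb : b ∈ 𝐙(T')) (hT' : T' ≤ P) (hn : a * b ≠ b * a) (hw : w ∈ 𝐙(T))
    (hw' : w ∈ T') : w ∈ 𝐙(P) := by
  refine ⟨h.le hw.1, mem_cent.2 fun x hx => ?_⟩
  by_cases hx' : x ∈ T
  · exact mem_cent.1 hw.2 x hx'
  have := mem_cent.1 hw.2 _ (h.half (hT' hb.1) (fun e => hn (mem_cent.1 ha.2 b e).symm) hx hx')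
  calc _ = b * (b⁻¹ * x * w) := by group
    _ = _ := by rw [this, ← mul_assoc, ← mem_cent.1 hb.2 w hw']; group

theorem tv (h : MaxBad X P T) (h' : MaxBad X P T') {a b : G} (ha : a ∈ 𝐙(T)) (hb : b ∈ 𝐙(T')) (hn : a * b ≠ b * a) :
    Tv P T (a * b * a⁻¹ * b⁻¹) := by
  have hz := h.c2.cls (comm_mem_comm (h.le ha.1) (h'.le hb.1))
  have hf : ∀ v ∈ 𝐙(T), v ∉ 𝐙(P) → ∀ w ∈ 𝐙(T), w ∉ 𝐙(P) → v⁻¹ * w ∈ 𝐙(P) := fun v hv hv' w hw hw' =>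
    h.mem_Z ha hb h'.le hn (mul_mem (inv_mem hv) hw) (h'.half (h.le hv.1) (mt (h.mem_Z ha hb h'.le hn hv) hv') (h.le hw.1)
      (mt (h.mem_Z ha hb h'.le hn hw) hw'))
  refine ⟨fun e => hn (by simpa [mul_inv_eq_iff_eq_mul] using e), hz, ?_, hf, fun w hw hw' x hx hx' => ?_⟩
  · have h1 := mem_cent.1 ha.2 _ (h.sq_mem (h'.le hb.1))
    have h2 := mem_cent.1 hz.2 b (h'.le hb.1)
    calc _ = a * b * a⁻¹ * b⁻¹ * (a * b * a⁻¹ * b⁻¹ * b) * b⁻¹ := by group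
      _ = a * b * a⁻¹ * (a * b * a⁻¹ * b⁻¹) * b⁻¹ := by rw [← h2]; group
      _ = a * (b * b) * a⁻¹ * b⁻¹ * b⁻¹ := by simp only [mul_assoc, inv_mul_cancel_left]
      _ = 1 := by rw [← h1]; group
  · have h1 := mem_cent.1 (hf a ha (fun e => hn (mem_cent.1 e.2 b (h'.le hb.1)).symm) w hw hw').2 x hx
    have h2 := mem_cent.1 ha.2 _ (h.half (h'.le hb.1) (fun e => hn (mem_cent.1 ha.2 b e).symm) hx hx')
    calc _ = a * (a⁻¹ * w * x) * w⁻¹ * x⁻¹ := by group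
      _ = a * b * (b⁻¹ * x * a⁻¹) * x⁻¹ := by rw [← h1]; group
      _ = _ := by rw [(Commute.inv_right h2).eq]; group

theorem exists_conj_notMem (h : MaxBad X P T) {z : G} (hz : Tv P T z) : ∃ g ∈ X ⊓ 𝐍(T), g * z * g⁻¹ ∉ 𝐙(P) := by
  by_contra! hc
  have h1 : X ⊓ 𝐍(T) ≤ 𝐂[z] := h.ind fun g hg => le_cent1_iff.2 (by
    rw [← conj_centralizer, mem_conj]; simpa using (hc _ (inv_mem hg)).2)
  have h2 := h.comm_le (norm_center inf_le_right) (norm_of_cent (cent_zpowers z ▸ h1))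
    ((inf_le_left.trans h.le).trans (h.le_H.trans (norm_of_cent (cent_zpowers z ▸ h1)))) (by
      rw [commutator_comm, comm_le_iff]
      intro w hw x hx
      by_cases e : w * x = x * w
      · simp [e]
      rw [hz.eq w hw (fun e' => e (mem_cent.1 e'.2 x hx).symm) x hx fun e' => e (mem_cent.1 hw.2 x e').symm]
      exact mem_zpowers z)
  have h3 : ∀ g ∈ X ⊓ 𝐍(T), g * g ∈ T := fun g hg => h.mem_of_cent (mul_mem hg.1 hg.1) fun w hw _ => by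
    obtain ⟨k, e⟩ := h2 (comm_mem_comm hg hw)
    have e1 : z ^ k * z ^ k = 1 := by rw [← (Commute.refl z).mul_zpow, hz.sq, one_zpow]
    have e2 : g * z ^ k = z ^ k * g := cent1_le_cent1_zpow z k (h1 hg) |> mem_cent1.1
    simp only [eq_mul_inv_iff_mul_eq] at e
    rw [mul_assoc, ← e, ← mul_assoc, ← mul_assoc, e2, mul_assoc (z ^ k), ← e, ← mul_assoc, ← mul_assoc, e1, one_mul, mul_assoc]
  refine h.bad.2.2 (h.c2.syl.eq_of_le_pgroup h.le_H inf_le_left fun g => ?_).ge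
  obtain ⟨k, hk⟩ := h.c2.syl.pgroup ⟨_, h.le (h3 _ g.2)⟩
  exact ⟨k + 1, Subtype.ext (by simpa [pow_succ', pow_mul, sq] using congrArg Subtype.val hk)⟩

theorem eq_of_adj (h : MaxBad X P T) (h' : MaxBad X P T') (h'' : MaxBad X P T'') (n' : ¬ 𝐙(T) ≤ 𝐂(𝐙(T')))
    (n'' : ¬ 𝐙(T) ≤ 𝐂(𝐙(T''))) : T' = T'' := by
  simp only [le_cent_iff, not_forall] at n' n''
  obtain ⟨a, ha, b, hb, n'⟩ := n'
  obtain ⟨a', ha', c, hc, n''⟩ := n''
  have t1 := h.tv h' ha hb n'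
  have t2 := h'.tv h hb ha (Ne.symm n')
  have t3 := h''.tv h hc ha' (Ne.symm n'')
  have e := t1.eq a' ha' (fun e => n'' (mem_cent.1 e.2 c (h''.le hc.1)).symm) c (h''.le hc.1)
    fun e => n'' (mem_cent.1 ha'.2 c e).symm
  obtain ⟨z, hz⟩ : ∃ z, a * b * a⁻¹ * b⁻¹ = z := ⟨_, rfl⟩
  rw [show b * a * b⁻¹ * a⁻¹ = (a * b * a⁻¹ * b⁻¹)⁻¹ by group, inv_eq_of_mul_eq_one_right t1.sq, hz] at t2
  rw [show c * a' * c⁻¹ * a'⁻¹ = (a' * c * a'⁻¹ * c⁻¹)⁻¹ by group, e, inv_eq_of_mul_eq_one_right t1.sq, hz] at t3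
  rw [hz] at t1
  obtain ⟨g, hg, n⟩ := h.exists_conj_notMem t1
  obtain ⟨g', hg', m'⟩ := h'.exists_conj_notMem t2
  obtain ⟨g'', hg'', m''⟩ := h''.exists_conj_notMem t3
  have u1 := conj_mem_of_norm (norm_center le_rfl hg'.2) (h'.Z_le t1.mem)
  have v1 := conj_mem_of_norm (norm_center le_rfl hg''.2) (h''.Z_le t1.mem)
  have v2 : g'' * z * g''⁻¹ * (g'' * z * g''⁻¹) = 1 := by rw [conj_mul, t1.sq]; simp
  generalize g'' * z * g''⁻¹ = v at m'' v1 v2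
  by_contra hne
  by_cases hv : v ∈ T'
  · obtain ⟨s, hs, hs'⟩ := SetLike.not_le_iff_exists.1 fun e => hne (h'.max _ h''.bad e).symm
    have e1 := h'.comm_mem hg' hs
    have e2 := h'.comm_mem hg' hv
    refine m' (Set.mem_of_eq_of_mem (Eq.symm ?_) t1.mem)
    rw [← t3.eq v v1 m'' s (h'.le hs) hs']
    obtain ⟨w, hw⟩ : ∃ w, g' * s * g'⁻¹ * s⁻¹ = w := ⟨_, rfl⟩
    obtain ⟨w', hw'⟩ : ∃ w, g' * v * g'⁻¹ * v⁻¹ = w := ⟨_, rfl⟩
    rw [hw] at e1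
    rw [hw'] at e2
    rw [mul_inv_eq_iff_eq_mul] at hw hw'
    have e3 := mem_cent.1 e2.2 _ (mul_mem (mul_mem hv (mul_mem e1.1 hs)) (inv_mem hv))
    have e4 := mem_cent.1 e1.2 _ (comm_mem_comm hv hs |> der_le T')
    calc _ = w * (v * s * v⁻¹ * s⁻¹) * w⁻¹ := by rw [← e4]; group
      _ = v * (w * s) * v⁻¹ * w' * w'⁻¹ * (w * s)⁻¹ := by rw [← mul_assoc v, mem_cent.1 e1.2 v hv]; group
      _ = w' * v * (w * s) * (w' * v)⁻¹ * (w * s)⁻¹ := by rw [e3]; group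
      _ = _ := by rw [← hw, ← hw']; group
  have u2 : g' * z * g'⁻¹ * (g' * z * g'⁻¹) = 1 := by rw [conj_mul, t1.sq]; simp
  generalize g' * z * g'⁻¹ = u at m' u1 u2
  have d1 := h.half (h'.le u1.1) (mt (h'.mem_Z hb ha h.le (Ne.symm n') u1) m') (h''.le v1.1)
    (mt (h''.mem_Z hc ha' h.le (Ne.symm n'') v1) m'')
  have d2 := t2.eq u u1 m' v (h''.le v1.1) hv
  rw [inv_eq_of_mul_eq_one_right u2] at d1 d2
  rw [inv_eq_of_mul_eq_one_right v2, mul_assoc] at d2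
  have w1 := h.comm_mem hg d1
  have w2 := mem_cent.1 w1.2 _ d1
  obtain ⟨w, hw⟩ : ∃ w, g * (u * v) * g⁻¹ * (u * v)⁻¹ = w := ⟨_, rfl⟩
  rw [hw] at w1 w2
  rw [mul_inv_eq_iff_eq_mul] at hw
  refine n (Set.mem_of_eq_of_mem ?_ <| mul_mem (by_cases (fun e => mul_mem e e) fun e => by
    simpa using t1.half _ (inv_mem w1) (mt inv_mem_iff.1 e) w w1 e : w * w ∈ 𝐙(P)) t1.mem)
  rw [← d2, ← conj_mul, hw, mul_assoc w (u * v), ← mul_assoc (u * v), w2]; group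

omit [Finite G] in
theorem conj (h : MaxBad X P T) {a : G} (hX : a ∈ 𝐍(X)) (hP : a ∈ 𝐍(P)) : MaxBad X P (a ⋆ T) := by
  have key : ∀ a ∈ 𝐍(X) ⊓ 𝐍(P), ∀ U, Bad X P U → Bad X P (a ⋆ U) := fun a ha U hU =>
    ⟨conj_eq_of_norm (norm_center le_rfl ha.2) ▸ conj_mono a hU.1, conj_le_of_norm hU.2.1 ha.2, fun e => hU.2.2 (by
      rwa [← conj_le_conj_iff (g := a), conj_inf, conj_normalizer, conj_eq_of_norm ha.1, conj_eq_of_norm ha.2])⟩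
  exact ⟨h.c2, key a ⟨hX, hP⟩ T h.bad, fun U hU e => by
    rw [← h.max _ (key a⁻¹ (inv_mem ⟨hX, hP⟩) U hU) (by rwa [← conj_le_iff_le_inv_conj]), conj_inv_conj]⟩

end MaxBad

/-- If a group `A` of odd order normalizes `X` and `P` and no `A`-invariant subgroup is `Bad`, then no subgroup is. -/
theorem C2.not_bad (h : C2 X P) {A : Subgroup G} (hA : Odd (Nat.card A)) (hX : A ≤ 𝐍(X)) (hP : A ≤ 𝐍(P))
    (hb : ∀ U, A ≤ 𝐍(U) → ¬ Bad X P U) : ¬ Bad X P T := fun h0 => by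
  obtain ⟨T, -, h1, h2⟩ := Core.exists_maximal_ge h0
  have m : MaxBad X P T := ⟨h, h1, h2⟩
  have z : ∀ a : G, 𝐙(a ⋆ T) = a ⋆ 𝐙(T) := fun a => by rw [conj_inf, conj_centralizer]
  have key : ∀ a ∈ A, 𝐙(T) ≤ 𝐂(𝐙(a ⋆ T)) := fun a ha => by_contra fun hn => by
    have := m.eq_of_adj (m.conj (hX ha) (hP ha)) (m.conj (hX (inv_mem ha)) (hP (inv_mem ha))) hn fun e => hn (by
      have := conj_mono a (cent_symm e)
      rwa [z, conj_inv_conj, conj_centralizer, ← z] at this)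
    have h3 : a * a ∈ 𝐍(T) := norm_of_conj_eq (by rw [← conj_conj, this, conj_inv_conj])
    obtain ⟨k, hk⟩ := hA
    have h4 : a ^ (2 * k + 1) = 1 := by simpa [hk] using congrArg Subtype.val (pow_card_eq_one' (x := (⟨a, ha⟩ : A)))
    have h5 : a ∈ 𝐍(T) := by
      rw [pow_succ, pow_mul, sq, mul_eq_one_iff_inv_eq] at h4
      exact h4 ▸ inv_mem (pow_mem h3 k)
    exact hn (by rw [conj_eq_of_norm h5]; exact abelian_cent (abelian_center T))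
  have h3 : ⨆ a : A, a.1 ⋆ 𝐙(T) ≤ T := iSup_le fun a x hx => m.mem_of_cent
    (h.syl.le ((m.conj (hX a.2) (hP a.2)).le (z a ▸ hx).1)) fun w hw _ => mem_cent.1 (key a a.2 hw) x (z a ▸ hx)
  have h4 : 𝐙(T) ≤ ⨆ a : A, a.1 ⋆ 𝐙(T) := le_iSup_of_le 1 (conj_one _).ge
  have h5 : A ≤ 𝐍(⨆ a : A, a.1 ⋆ 𝐙(T)) := fun a ha => mem_normalizer_of_conj_le (by
    rw [Subgroup.map_iSup]
    refine iSup_le fun b => ?_
    rw [conj_conj]
    exact le_iSup (fun a : A => a.1 ⋆ 𝐙(T)) ⟨a * b, mul_mem ha b.2⟩)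
  generalize ⨆ a : A, a.1 ⋆ 𝐙(T) = U at h3 h4 h5
  refine hb U h5 ⟨m.Z_le.trans h4, h3.trans m.le, fun e => h1.2.2 (le_trans (le_inf
    inf_le_left (norm_of_comm_le_of_le (comm_le_iff.2 fun t ht g hg => h4 ?_) h3)) e)⟩
  rw [show t * g * t⁻¹ * g⁻¹ = (g * t * g⁻¹ * t⁻¹)⁻¹ by group]
  exact inv_mem (m.comm_mem hg ht)

end Cfsg.Lib.HH
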