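import Cfsg.Agent.Lib.HH.Weight
import Cfsg.Agent.Lib.Core.MinNormal
import Cfsg.Agent.Lib.Core.Solvable

/-!
# Dimension counts for fixed spaces of elements of prime order; fixed point ratios in solvable groups
-/

set_option autoImplicit false

namespace Cfsg.Lib.HH.Half

open Module Subgroup

section lin
variable {K W : Type*} [Field K] [AddCommGroup W] [Module K W] [FiniteDimensional K W]

theorem sum_le {ι : Type*} (s : Finset ι) {U : ι → Submodule K W} (h : iSupIndep U) {E : Submodule K W}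
    (hE : ∀ i, U i ≤ E) : ∑ i ∈ s, finrank K (U i) ≤ finrank K E := by
  classical
  have h1 := (h.comp (f := fun i : s => (i : ι)) Subtype.val_injective).dfinsupp_lsum_injective
  have h2 : Function.Injective (DirectSum.coeLinearMap fun i : s => U i) := h1
  rw [← Finset.sum_coe_sort, ← finrank_directSum, ← LinearMap.finrank_range_of_inj h2]
  refine Submodule.finrank_mono ?_
  rw [DirectSum.range_coeLinearMap]
  exact iSup_le fun i => hE i

theorem le_sum {ι : Type*} (s : Finset ι) (U : ι → Submodule K W) :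
    finrank K ↥(⨆ i ∈ s, U i) ≤ ∑ i ∈ s, finrank K (U i) := by
  classical
  induction s using Finset.induction_on with
  | empty => simp
  | insert a s ha ih =>
    rw [Finset.iSup_insert, Finset.sum_insert ha]
    exact (Submodule.finrank_add_le_finrank_add_finrank _ _).trans (Nat.add_le_add_left ih _)

/-- The fixed space of an operator permuting the summands of a direct decomposition. -/
theorem perm_bound {Ω P : Type*} [Finite Ω] [Group P] [Finite P] [MulAction P Ω] {p : ℕ} (hp : p.Prime)
    (hP : Nat.card P = p) {U : Ω → Submodule K W} (h1 : iSupIndep U) (h2 : iSup U = ⊤) {m : ℕ}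
    (hm : ∀ ω, finrank K (U ω) = m) (τ : P →* End K W) (hτ : ∀ g ω, ∀ v ∈ U ω, τ g v ∈ U (g • ω))
    {x : P} (hx : x ≠ 1) : finrank K W = Nat.card Ω * m ∧
      p * finrank K (LinearMap.ker (τ x - 1)) ≤
        (Nat.card Ω + (p - 1) * Nat.card (MulAction.fixedBy Ω x)) * m := by
  classical
  have := Fintype.ofFinite Ω
  have := Fintype.ofFinite P
  have := Fact.mk hp
  have hI := DirectSum.isInternal_submodule_of_iSupIndep_of_iSup_eq_top h1 h2
  let e := (LinearEquiv.ofBijective (DirectSum.coeLinearMap U) hI).symm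
  have hgen : ∀ g : P, g ≠ 1 → ∀ y, y ∈ zpowers g := fun g hg y => mem_zpowers_of_prime_card hP hg
  refine ⟨by rw [e.finrank_eq, finrank_directSum]; simp [hm], ?_⟩
  have he : ∀ (g : P) (ω : Ω) (v : W), (e (τ g v) (g • ω) : W) = τ g (e v ω) := fun g ω v => by
    have hv : v ∈ iSup U := h2 ▸ trivial
    induction hv using Submodule.iSup_induction' with
    | mem η v hv =>
      by_cases h : η = ω
      · subst h
        rw [hI.ofBijective_coeLinearMap_of_mem hv, hI.ofBijective_coeLinearMap_of_mem (hτ g η v hv)]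
      · rw [hI.ofBijective_coeLinearMap_of_mem_ne h hv, hI.ofBijective_coeLinearMap_of_mem_ne
          (fun h' => h (MulAction.injective g h')) (hτ g η v hv)]
        simp
    | zero => simp
    | add a b _ _ ha hb => simp [ha, hb]
  let Q := Quotient (MulAction.orbitRel P Ω)
  have : Fintype Q := Fintype.ofFinite Q
  let f : LinearMap.ker (τ x - 1) →ₗ[K] (q : Q) → U q.out :=
    LinearMap.pi fun q => (DirectSum.component K Ω _ q.out) ∘ₗ e.toLinearMap ∘ₗ Submodule.subtype _
  have hf : Function.Injective f := by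
    rw [injective_iff_map_eq_zero]
    rintro ⟨v, hv⟩ h0
    have hv1 : τ x v = v := sub_eq_zero.1 hv
    have hv2 : ∀ g : P, τ g v = v := fun g => by
      obtain ⟨n, rfl⟩ := (mem_powers_iff_mem_zpowers).2 (hgen x hx g)
      induction n with
      | zero => simp
      | succ n ih => simp only [pow_succ, map_mul, End.mul_apply, hv1] at ih ⊢; exact ih
    refine Subtype.ext (e.injective (DFinsupp.ext fun ω => Subtype.ext ?_))
    obtain ⟨g, hg⟩ : ∃ g : P, g • (Quotient.mk (MulAction.orbitRel P Ω) ω).out = ω :=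
      MulAction.orbitRel_apply.1 ((MulAction.orbitRel P Ω).symm (Quotient.mk_out ω))
    have h3 : e v (Quotient.mk (MulAction.orbitRel P Ω) ω).out = 0 := congrFun h0 _
    have h4 := he g (Quotient.mk (MulAction.orbitRel P Ω) ω).out v
    rw [hv2, hg, h3] at h4
    simpa using h4
  have h5 := LinearMap.finrank_le_finrank_of_injective hf
  rw [finrank_pi_fintype] at h5
  simp only [hm, Finset.sum_const, Finset.card_univ, smul_eq_mul] at h5
  have h6 := MulAction.sum_card_fixedBy_eq_card_orbits_mul_card_group P Ω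
  rw [← Finset.add_sum_erase _ _ (Finset.mem_univ 1), Finset.sum_congr rfl
    (g := fun _ => Nat.card (MulAction.fixedBy Ω x)) (fun g hg => by
      rw [← Nat.card_eq_fintype_card]
      congr 2
      have hs : ∀ a b : P, a ≠ 1 → MulAction.fixedBy Ω a ⊆ MulAction.fixedBy Ω b := fun a b ha => by
        obtain ⟨n, rfl⟩ := hgen a ha b
        exact MulAction.fixedBy_subset_fixedBy_zpow Ω a n
      exact (hs g x (Finset.ne_of_mem_erase hg)).antisymm (hs x g hx)),
    Finset.sum_const, Finset.card_erase_of_mem (Finset.mem_univ _), Finset.card_univ,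
    ← Nat.card_eq_fintype_card (α := P), hP, smul_eq_mul, ← Nat.card_eq_fintype_card,
    MulAction.fixedBy_one_eq_univ, Nat.card_univ] at h6
  rw [h6, mul_right_comm, mul_comm p]
  exact Nat.mul_le_mul_right _ h5

theorem finrank_le_of_map {U V : Submodule K W} {T : End K W} (hT : Function.Injective T)
    (h : ∀ v ∈ U, T v ∈ V) : finrank K U ≤ finrank K V :=
  LinearMap.finrank_le_finrank_of_injective (f := T.restrict h) fun _ _ e =>
    Subtype.ext (hT (congrArg Subtype.val e))

/-- eigenspaces permuted by an invertible operator -/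
theorem eig_bound {X Y : End K W} (hY : Function.Injective Y) {ζ : K} {p : ℕ} (hζ : IsPrimitiveRoot ζ p)
    (h : X * Y = ζ • (Y * X)) {a : K} (ha : a ≠ 0) : p * finrank K (X.eigenspace a) ≤ finrank K W := by
  classical
  have h1 : ∀ i : ℕ, finrank K (X.eigenspace a) ≤ finrank K (X.eigenspace (ζ ^ i * a)) := fun i => by
    induction i with
    | zero => rw [pow_zero, one_mul]
    | succ i ih =>
      refine ih.trans (finrank_le_of_map hY fun v hv => ?_)
      rw [End.mem_eigenspace_iff] at hv ⊢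
      rw [← End.mul_apply, h, LinearMap.smul_apply, End.mul_apply, hv, map_smul, smul_smul, pow_succ',
        mul_assoc]
  have h2 := sum_le ((Finset.range p).image fun i => ζ ^ i * a) X.eigenspaces_iSupIndep
    (E := ⊤) fun _ => le_top
  rw [finrank_top, Finset.sum_image fun i hi j hj e => hζ.pow_inj (Finset.mem_range.1 hi)
    (Finset.mem_range.1 hj) (mul_right_cancel₀ ha e)] at h2
  refine le_trans ?_ h2
  simpa using Finset.sum_le_sum (s := Finset.range p) fun i _ => h1 i

theorem sum_fiber_le {X : End K W} {E : Submodule K W} (s : Finset ℕ) (a : ℕ → K) {M : ℕ}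
    [DecidableEq K] (hM : ∀ b, (s.filter fun i => a i = b).card ≤ M) :
    ∑ i ∈ s, finrank K ↥(X.eigenspace (a i) ⊓ E) ≤ M * finrank K E := by
  rw [Finset.sum_comp (fun b => finrank K ↥(X.eigenspace b ⊓ E)) a]
  refine le_trans (Finset.sum_le_sum fun b _ => Nat.mul_le_mul_right _ (hM b)) ?_
  rw [← Finset.mul_sum]
  exact Nat.mul_le_mul_left _ (sum_le _ (X.eigenspaces_iSupIndep.mono fun _ => inf_le_left)
    fun _ => inf_le_right)

theorem sq_lt_commutant {X : End K W} (hX : X ≠ 1) {C : Submodule K (End K W)}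
    (hC : ∀ T, X * T = T * X → T ∈ C) :
    finrank K (LinearMap.ker (X - 1)) ^ 2 < finrank K C := by
  let f : ((W ⧸ LinearMap.range (X - 1)) →ₗ[K] LinearMap.ker (X - 1)) →ₗ[K] End K W :=
    (LinearMap.llcomp K _ _ _ (LinearMap.ker (X - 1)).subtype) ∘ₗ
      LinearMap.lcomp K _ (LinearMap.range (X - 1)).mkQ
  have hf : Function.Injective f := fun a b h => by
    ext v
    exact LinearMap.congr_fun h v
  have h1 : finrank K (W ⧸ LinearMap.range (X - 1)) = finrank K (LinearMap.ker (X - 1)) := by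
    have := (X - 1).finrank_range_add_finrank_ker
    have := (LinearMap.range (X - 1)).finrank_quotient_add_finrank
    omega
  have h2 := LinearMap.finrank_range_of_inj hf
  rw [finrank_linearMap, h1, ← pow_two] at h2
  rw [← h2]
  refine Submodule.finrank_lt_finrank_of_lt (lt_of_le_of_ne ?_ fun e => hX ?_)
  · rintro _ ⟨a, rfl⟩
    refine hC _ (LinearMap.ext fun v => ?_)
    have h3 : ∀ w, X (f a w) = f a w := fun w => sub_eq_zero.1 (a _).2
    have h4 : (LinearMap.range (X - 1)).mkQ (X v) = (LinearMap.range (X - 1)).mkQ v :=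
      (Submodule.Quotient.eq _).2 ⟨v, rfl⟩
    rw [End.mul_apply, h3, End.mul_apply]
    exact congrArg (fun y => (a y : W)) h4.symm
  · obtain ⟨a, ha⟩ : (1 : End K W) ∈ LinearMap.range f := e ▸ hC 1 (by simp)
    ext v
    have h3 : X (f a v) = f a v := sub_eq_zero.1 (a _).2
    rwa [ha] at h3

omit [FiniteDimensional K W] in
theorem wt_indep {G Ω : Type*} [Group G] (τ : G →* End K W) (R : Subgroup G) (μ : Ω → G → K)
    (h : ∀ ω ω', (∀ w ∈ R, μ ω w = μ ω' w) → ω = ω') : iSupIndep fun ω => wt τ R (μ ω) := by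
  intro ω
  rw [Submodule.disjoint_def]
  intro v hv h1
  refine eig_indep hv (SetLike.le_def.1 ?_ h1)
  refine iSup₂_le fun ω' hω => le_iSup_of_le ⟨μ ω', ?_⟩ le_rfl
  by_contra hh
  push Not at hh
  exact hω (h _ _ hh)

theorem ker_le_add {X : End K W} {U : Submodule K W} (h : ∀ v ∈ U, X v ∈ U) :
    finrank K (LinearMap.ker (X - 1)) ≤ finrank K (LinearMap.ker ((X.restrict h : End K U) - 1)) +
      finrank K (LinearMap.ker ((U.mapQ U X h : End K (W ⧸ U)) - 1)) := by
  let f : LinearMap.ker (X - 1) →ₗ[K] LinearMap.ker ((U.mapQ U X h : End K (W ⧸ U)) - 1) :=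
    (U.mkQ ∘ₗ Submodule.subtype _).codRestrict _ fun v => by
      have : X v = v := sub_eq_zero.1 v.2
      simp [this]
  rw [← f.finrank_range_add_finrank_ker, add_comm]
  refine add_le_add ?_ (Submodule.finrank_le _)
  have hU : ∀ v : LinearMap.ker f, (v.1 : W) ∈ U := fun v =>
    (Submodule.Quotient.mk_eq_zero U).1 (congrArg Subtype.val v.2)
  let g : LinearMap.ker f →ₗ[K] LinearMap.ker ((X.restrict h : End K U) - 1) :=
    (((Submodule.subtype _) ∘ₗ Submodule.subtype _).codRestrict U hU).codRestrict _ fun v =>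
      Subtype.ext v.1.2
  exact LinearMap.finrank_le_finrank_of_injective (f := g) fun a b e =>
    Subtype.ext (Subtype.ext (congrArg (fun y => (y.1 : W)) e))

end lin

section grp
universe u
variable {p : ℕ} [hp : Fact p.Prime]

theorem card_modEq {G : Type*} [Group G] [Finite G] (W : Subgroup G) [W.Normal] {g : G} (hg : g ^ p = 1) :
    Nat.card W ≡ Nat.card (W ⊓ centralizer {g} : Subgroup G) [MOD p] := by
  let : MulAction (zpowers g) W :=
    MulAction.compHom W ((MulAut.conjNormal (H := W)).comp (zpowers g).subtype)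
  have h1 : IsPGroup p (zpowers g) := fun ⟨_, k, rfl⟩ => ⟨1, Subtype.ext (by
    change (g ^ k) ^ p ^ 1 = 1
    rw [pow_one, ← zpow_natCast, ← zpow_mul, mul_comm k, zpow_mul, zpow_natCast, hg, one_zpow])⟩
  refine (h1.card_modEq_card_fixedPoints W).trans (Nat.ModEq.refl _ |>.trans ?_)
  rw [Nat.card_congr (β := (W ⊓ centralizer {g} : Subgroup G))
    { toFun := fun x => ⟨x.1, x.1.2, mem_centralizer_singleton_iff.2 (eq_mul_of_mul_inv_eq
        (congrArg Subtype.val (x.2 ⟨g, mem_zpowers g⟩))).symm⟩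
      invFun := fun x => ⟨⟨x.1, x.2.1⟩, fun ⟨_, k, rfl⟩ => Subtype.ext (mul_inv_eq_iff_eq_mul.2
        ((Commute.zpow_left (mem_centralizer_singleton_iff.1 x.2.2).symm k)))⟩
      left_inv := fun _ => rfl
      right_inv := fun _ => rfl }]

/-- the index of the fixed points of an element of order `p` on a normal `r`-subgroup -/
theorem index_cen {G : Type*} [Group G] [Finite G] {r : ℕ} (hr : r.Prime) (W : Subgroup G) [W.Normal]
    (hW : IsPGroup r W) {g : G} (hg : g ^ p = 1) (h : ¬ W ≤ centralizer {g}) :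
    ∃ j, 0 < j ∧ Nat.card W = r ^ j * Nat.card (W ⊓ centralizer {g} : Subgroup G) ∧
      (r ≠ p → r ^ j ≡ 1 [MOD p]) ∧ p ≤ r ^ j := by
  have := Fact.mk hr
  obtain ⟨n, hn⟩ := IsPGroup.iff_card.1 hW
  have h1 := Core.card_mul_relIndex (inf_le_left : W ⊓ centralizer {g} ≤ W)
  obtain ⟨j, -, hj⟩ := (Nat.dvd_prime_pow hr).1 (hn ▸ Dvd.intro_left _ h1)
  have hj0 : 0 < j := Nat.pos_of_ne_zero fun e => h (by
    rw [e, pow_zero, relIndex_eq_one] at hj
    exact hj.trans inf_le_right)
  have h2 : r ≠ p → r ^ j ≡ 1 [MOD p] := fun hrp => by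
    have h3 := card_modEq W hg
    rw [← h1, hj] at h3
    refine Nat.ModEq.cancel_left_of_coprime (c := Nat.card (W ⊓ centralizer {g} : Subgroup G)) ?_
      (by rwa [mul_one])
    exact (Nat.Coprime.coprime_dvd_left (hn ▸ Dvd.intro _ h1)
      (((Nat.coprime_primes hr hp.1).2 hrp).pow_left n)).symm
  refine ⟨j, hj0, by rw [← h1, hj, mul_comm], h2, ?_⟩
  by_cases e : r = p
  · exact e ▸ Nat.le_self_pow hj0.ne' r
  · have h3 := Nat.one_lt_pow hj0.ne' hr.one_lt
    have := Nat.le_of_dvd (by omega) ((Nat.modEq_iff_dvd' h3.le).1 (h2 e).symm)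
    omega

theorem ratio (G : Type u) [Group G] [Finite G] : Group.IsSolvable G → ∀ (H : Subgroup G) (x : G), H ≠ ⊤ →
    x ^ p = 1 → normalClosure {x} = ⊤ → p * Nat.card {g : G | g⁻¹ * x * g ∈ H} ≤ Nat.card G := by
  refine Core.induction_on_card (P := fun G _ _ => Group.IsSolvable G → ∀ (H : Subgroup G) (x : G),
    H ≠ ⊤ → x ^ p = 1 → normalClosure {x} = ⊤ →
      p * Nat.card {g : G | g⁻¹ * x * g ∈ H} ≤ Nat.card G) G fun G _ _ ih => ?_
  intro hs H x hH hx hc
  have : Nontrivial G := by
    by_contra h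
    rw [not_nontrivial_iff_subsingleton] at h
    exact hH (Subsingleton.elim _ _)
  obtain ⟨A, r, hA, hr, hAe⟩ := Core.exists_isMinNormal_elementary (G := G)
  have := hA.normal
  have : IsMulCommutative A := hAe.1
  by_cases h : A ⊔ H = ⊤
  · have h0 := hA.inf_eq_bot_of_sup_eq_top hH h
    rcases isEmpty_or_nonempty {g : G | g⁻¹ * x * g ∈ H} with h1 | ⟨⟨g₀, hg₀⟩⟩
    · simp
    have hy : normalClosure {g₀⁻¹ * x * g₀} = ⊤ := top_le_iff.1 (hc ▸ normalClosure_le_normal (by
      rw [Set.singleton_subset_iff]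
      simpa [mul_assoc] using normalClosure_normal.conj_mem _
        (subset_normalClosure (Set.mem_singleton (g₀⁻¹ * x * g₀))) g₀))
    have hy' : (g₀⁻¹ * x * g₀) ^ p = 1 := by
      rw [show g₀⁻¹ * x * g₀ = g₀⁻¹ * x * g₀⁻¹⁻¹ by simp, conj_pow, hx]; simp
    set y := g₀⁻¹ * x * g₀ with hyd
    obtain ⟨j, -, h2, -, h3⟩ := index_cen hr A (Core.isPGroup_of_isElementaryAbelian hAe) hy' fun hh => by
      have h4 : normalClosure {y} ≤ centralizer (A : Set G) := normalClosure_le_normal (by
        rintro _ rfl a ha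
        exact mem_centralizer_singleton_iff.1 (hh ha))
      have : H.Normal := Core.normal_of_top_le_normalizer (h ▸ sup_le ((le_centralizer_iff.1
        (le_top.trans (hy ▸ h4))).trans (centralizer_le_normalizer _)) le_normalizer)
      exact hH (top_le_iff.1 (hy ▸ normalClosure_le_normal (by rintro _ rfl; exact hg₀)))
    have h4 : Nat.card {g : G | g⁻¹ * x * g ∈ H} ≤
        Nat.card ((A ⊓ centralizer {y} : Subgroup G) × H) := by
      refine Nat.card_le_card_of_surjective (fun b => ⟨g₀ * (b.1 * b.2), ?_⟩) ?_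
      · change _ ∈ H
        rw [show (g₀ * (b.1 * b.2))⁻¹ * x * (g₀ * (b.1 * b.2)) =
          (b.2 : G)⁻¹ * ((b.1 : G)⁻¹ * (y * b.1)) * b.2 by simp only [hyd]; group,
          ← mem_centralizer_singleton_iff.1 b.1.2.2, inv_mul_cancel_left]
        exact mul_mem (mul_mem (inv_mem b.2.2) hg₀) b.2.2
      · rintro ⟨g, hg⟩
        obtain ⟨a, ha, b, hb, e⟩ := mem_sup_of_normal_left.1 (h ▸ mem_top (g₀⁻¹ * g))
        have h5 : a⁻¹ * y * a * y⁻¹ ∈ A ⊓ H := by
          refine ⟨by simpa [mul_assoc] using mul_mem (inv_mem ha) (hA.normal.conj_mem a ha y),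
            H.mul_mem ?_ (H.inv_mem hg₀)⟩
          rw [show a⁻¹ * y * a = b * (g⁻¹ * x * g) * b⁻¹ by
            rw [hyd, eq_mul_inv_of_mul_eq e]; group]
          exact H.mul_mem (H.mul_mem hb hg) (H.inv_mem hb)
        rw [h0, mem_bot, mul_inv_eq_one, mul_assoc, inv_mul_eq_iff_eq_mul] at h5
        exact ⟨(⟨a, ha, mem_centralizer_singleton_iff.2 h5.symm⟩, ⟨b, hb⟩), Subtype.ext (by simp [e])⟩
    rw [Nat.card_prod] at h4
    rw [← H.index_mul_card, Core.index_eq_card_of_inf_eq_bot h0 h, h2, mul_assoc]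
    exact Nat.mul_le_mul h3 h4
  · have h1 := ih (G ⧸ A) (Core.card_quotient_lt hA.ne_bot) inferInstance (H.map (QuotientGroup.mk' A)) x
      (fun e => h (by rwa [Core.map_mk'_eq_top_iff, sup_comm] at e))
      (by rw [← QuotientGroup.mk_pow, hx, QuotientGroup.mk_one])
      (by
        have := map_normalClosure {x} (QuotientGroup.mk' A) (QuotientGroup.mk'_surjective A)
        rw [hc, Set.image_singleton, map_top_of_surjective _ (QuotientGroup.mk'_surjective A)] at this
        exact this.symm)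
    rw [card_eq_card_quotient_mul_card_subgroup A]
    refine le_trans ?_ (Nat.mul_le_mul_right _ h1)
    rw [mul_assoc, mul_comm _ (Nat.card A), ← QuotientGroup.card_preimage_mk]
    exact Nat.mul_le_mul_left _ (Nat.card_mono (Set.toFinite _) fun g hg => mem_map_of_mem _ hg)

theorem ratio' {G : Type*} [Group G] [Finite G] (hs : Group.IsSolvable G) {H : Subgroup G} {x : G}
    (hH : H ≠ ⊤) (hx : x ^ p = 1) (hc : normalClosure {x} = ⊤) :
    p * Nat.card (MulAction.fixedBy (G ⧸ H) x) ≤ Nat.card (G ⧸ H) := by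
  have h1 := ratio G hs H x hH hx hc
  have h2 : {g : G | g⁻¹ * x * g ∈ H} = QuotientGroup.mk ⁻¹' MulAction.fixedBy (G ⧸ H) x := by
    ext g
    simp only [Set.mem_ofPred_eq, Set.mem_preimage, MulAction.mem_fixedBy, MulAction.Quotient.smul_mk,
      smul_eq_mul, eq_comm (b := (g : G ⧸ H)), QuotientGroup.eq, mul_assoc]
  rw [h2, QuotientGroup.card_preimage_mk, card_eq_card_quotient_mul_card_subgroup H, mul_left_comm,
    mul_comm (Nat.card H)] at h1
  exact Nat.le_of_mul_le_mul_right h1 Nat.card_pos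

end grp

end Cfsg.Lib.HH.Half
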