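import Cfsg.Agent.Lib.HH.ModIrr

/-!
# The critical case of Theorem B of Hall and Higman
-/

set_option autoImplicit false

namespace Cfsg.Lib.HH.ModB

open Module LinearMap Finset

variable {K V : Type*} [Field K] [AddCommGroup V] [Module K V] {p : ℕ} [hp : Fact p.Prime]

theorem geom_sum_pow (K : Type*) [Field K] [CharP K p] {R : Type*} [Ring R] [Algebra K R] (x : R) (k : ℕ) :
    ∑ i ∈ range (p ^ k), x ^ i = (x - 1) ^ (p ^ k - 1) := by
  have : ∑ i ∈ range (p ^ k), (Polynomial.X : Polynomial K) ^ i = (Polynomial.X - 1) ^ (p ^ k - 1) :=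
    mul_right_cancel₀ (Polynomial.X_sub_C_ne_zero (1 : K)) (by
      rw [Polynomial.C_1, geom_sum_mul, ← pow_succ, Nat.sub_add_cancel (Nat.one_le_pow _ _ hp.1.pos),
        sub_pow_char_pow, one_pow])
  simpa using congrArg (Polynomial.aeval x) this

theorem sub_one_pow_pow (K : Type*) [Field K] [CharP K p] {R : Type*} [Ring R] [Algebra K R] (x : R) (k : ℕ) :
    (x - 1) ^ p ^ k = x ^ p ^ k - 1 := by
  rw [← geom_sum_mul, geom_sum_pow K, ← pow_succ, Nat.sub_add_cancel (Nat.one_le_pow _ _ hp.1.pos)]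

theorem sum_orbit {X A : Type*} [Fintype X] [DecidableEq X] [AddCommMonoid A] {α : Equiv.Perm X} {n : ℕ}
    (h : α ^ p ^ (n + 1) = 1) (F : X → A)
    (hF : ∀ x, (α ^ p ^ n) x ≠ x → ∑ i ∈ range (p ^ (n + 1)), F ((α ^ i) x) = 0) :
    ∑ x with (α ^ p ^ n) x ≠ x, F x = 0 := by
  classical
  refine sum_cancels_of_partition_cancels (Equiv.Perm.SameCycle.setoid α) fun x hx => ?_
  have hx := (mem_filter.1 hx).2
  have h1 : Function.minimalPeriod α x = p ^ (n + 1) :=
    Function.minimalPeriod_eq_prime_pow hx (show (α ^ p ^ (n + 1)) x = x by rw [h]; rfl)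
  rw [← hF x hx]
  refine (sum_bij (fun i _ => (α ^ i) x) (fun i _ => ?_) (fun i hi j hj e => ?_) (fun y hy => ?_) fun _ _ => rfl).symm
  · refine mem_filter.2 ⟨mem_filter.2 ⟨mem_univ _, fun e => hx ((α ^ i).injective ?_)⟩,
      Equiv.Perm.SameCycle.symm ⟨i, rfl⟩⟩
    rwa [← Equiv.Perm.mul_apply, ← pow_add, add_comm, pow_add]
  · exact Function.iterate_injOn_Iio_minimalPeriod (f := α) (h1 ▸ mem_range.1 hi) (h1 ▸ mem_range.1 hj) e
  · obtain ⟨i, hi, e⟩ := (Equiv.Perm.SameCycle.symm (mem_filter.1 hy).2).exists_pow_eq'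
    exact ⟨i, mem_range.2 (hi.trans_le (orderOf_le_of_pow_eq_one (pow_pos hp.1.pos _) h)), e⟩

theorem kill {T T' : End K V} (h : T * T' = 1) (h' : T' * T = 1) {s : ℕ} (hs : (T - 1) ^ s = 0) (a : End K V) (m : ℕ) :
    ∀ j k w, ((T - 1) ^ k) w = 0 → k + s ≤ j + m + 1 →
      ((T - 1) ^ j) (((mulLeftRight K (T, T') - 1) ^ m) a w) = 0 := by
  induction m with
  | zero =>
    rintro j (_ | k) w hw hj
    · rw [show w = 0 from hw, map_zero, map_zero]
    · rw [pow_eq_zero_of_le (by omega) hs, LinearMap.zero_apply]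
  | succ m ih =>
    rintro j (_ | k) w hw hj
    · rw [show w = 0 from hw, map_zero, map_zero]
    have h1 : ((T - 1) ^ (k + 1)) (T' w) = 0 := by
      rw [← End.mul_apply, ((Commute.sub_left (h.trans h'.symm) (Commute.one_left T')).pow_left _).eq, End.mul_apply, hw,
        map_zero]
    have h2 : ∀ b : End K V, (mulLeftRight K (T, T') - 1) b = (T - 1) * b * T' - b * (T - 1) * T' := fun b => by
      simp only [LinearMap.sub_apply, mulLeftRight_apply, End.one_apply, sub_mul, mul_sub, mul_assoc, h, one_mul, mul_one]; abel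
    rw [pow_succ', End.mul_apply, h2, LinearMap.sub_apply, map_sub, End.mul_apply, End.mul_apply, End.mul_apply, End.mul_apply,
      ← End.mul_apply _ (T - 1), ← pow_succ, ih _ _ _ h1 (by omega), ih _ k _ (by rwa [pow_succ] at h1) (by omega),
      sub_zero]

theorem eq_zero_of_ker_sq {f : End K V} {s : ℕ} (hs : f ^ s = 0) (h : ∀ w, (f ^ 2) w = 0 → f w = 0) : f = 0 := by
  have : ∀ k w, (f ^ (k + 1)) w = 0 → f w = 0 := fun k => by
    induction k with
    | zero => exact fun w hw => by rwa [zero_add, pow_one] at hw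
    | succ k ih => exact fun w hw => h w (by rw [sq]; exact ih (f w) (by rwa [pow_succ] at hw))
  exact LinearMap.ext fun w => this s w (by rw [pow_succ, hs, zero_mul, LinearMap.zero_apply])

/-- A nilpotent operator whose commutant acts by scalars on its kernel is a single Jordan block. -/
theorem finrank_le_of_commutant [FiniteDimensional K V] {f : End K V} {s : ℕ} (hs : f ^ (s + 1) = 0) (h0 : f ^ s ≠ 0)
    (h : ∀ e : End K V, f * e = e * f → ∃ μ : K, ∀ w, f w = 0 → e w = μ • w) : finrank K V ≤ s + 1 := by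
  obtain ⟨v, hv⟩ : ∃ v, (f ^ s) v ≠ 0 := by simpa [LinearMap.ext_iff] using h0
  obtain ⟨φ, hφ⟩ := Projective.exists_dual_ne_zero K hv
  let e : End K V := ∑ i ∈ range (s + 1), f ^ (s - i) * φ.smulRight v * f ^ i
  have h1 : f * e = e * f := by
    rw [mul_sum, sum_mul, sum_range_succ', sum_range_succ _ s, ← mul_assoc, ← mul_assoc, ← pow_succ', Nat.sub_zero, hs,
      mul_assoc _ (f ^ s), ← pow_succ, hs, zero_mul, zero_mul, mul_zero]
    refine congrArg (· + 0) (sum_congr rfl fun i hi => ?_)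
    rw [← mul_assoc, ← mul_assoc, ← pow_succ', mul_assoc _ (f ^ i), ← pow_succ,
      show s - (i + 1) + 1 = s - i by have := mem_range.1 hi; omega]
  have h2 : ∀ w, f w = 0 → e w = φ w • (f ^ s) v := fun w hw => by
    simp only [e, LinearMap.sum_apply, sum_range_succ', End.mul_apply, pow_succ, hw, map_zero, sum_const_zero]
    simp [hw]
  obtain ⟨μ, hμ⟩ := h e h1
  have h3 : f ((f ^ s) v) = 0 := by rw [← End.mul_apply, ← pow_succ', hs, LinearMap.zero_apply]
  have h4 : μ ≠ 0 := fun e' => smul_ne_zero hφ hv (by rw [← h2 _ h3, hμ _ h3, e', zero_smul])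
  have h5 : ∀ k w, (f ^ k) w = 0 → e w = 0 → w = 0 := fun k => by
    induction k with
    | zero => exact fun w hw _ => hw
    | succ k ih =>
      intro w hw he
      have := ih (f w) (by rwa [pow_succ] at hw) (by rw [← End.mul_apply, ← h1, End.mul_apply, he, map_zero])
      exact (smul_eq_zero.1 ((hμ w this).symm.trans he)).resolve_left h4
  have h6 : Function.Injective e := (injective_iff_map_eq_zero e).2 fun w => h5 (s + 1) w (by rw [hs, LinearMap.zero_apply])
  rw [← finrank_range_of_inj h6]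
  refine (Submodule.finrank_mono (t := Submodule.span K (Set.range fun i : Fin (s + 1) => (f ^ (s - i)) v)) ?_).trans
    ((finrank_range_le_card _).trans (Fintype.card_fin _).le)
  rintro _ ⟨w, rfl⟩
  simp only [e, LinearMap.sum_apply, End.mul_apply, smulRight_apply, map_smul]
  exact Submodule.sum_mem _ fun i hi => Submodule.smul_mem _ _ (Submodule.subset_span ⟨⟨i, mem_range.1 hi⟩, rfl⟩)

variable [CharP K p] [FiniteDimensional K V] {Q : Type*} [Group Q] [Finite Q] {ρ : Q →* End K V} {α : MulAut Q}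
  {T : End K V} {n : ℕ}

/-- An operator commuting with `T` is a scalar plus a norm. -/
theorem dec (hQ : (Nat.card Q : K) ≠ 0) (hS : ∀ c : End K V, (∀ g, ρ g * c = c * ρ g) → ∃ a : K, c = a • 1)
    (hα : α ^ p ^ (n + 1) = 1) (hT : T ^ p ^ (n + 1) = 1) (hc : ∀ g, T * ρ g = ρ (α g) * T)
    (hf : ∀ g, (α ^ p ^ n) g = g → ∃ a : K, ρ g = a • 1) {s : ℕ} (hs : (T - 1) ^ s = 0) {e : End K V}
    (he : T * e = e * T) : ∃ μ : K, ∀ k w, ((T - 1) ^ k) w = 0 → k + s ≤ p ^ (n + 1) → e w = μ • w := by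
  classical
  have := Fintype.ofFinite Q
  have hN := Nat.sub_add_cancel (Nat.one_le_pow (n + 1) _ hp.1.pos)
  obtain ⟨T', h, h'⟩ : ∃ T', T * T' = 1 ∧ T' * T = 1 :=
    ⟨T ^ (p ^ (n + 1) - 1), by rw [← pow_succ', hN, hT], by rw [← pow_succ, hN, hT]⟩
  have h1 : ∀ g, ρ (α g) = T * ρ g * T' := fun g => by rw [hc, mul_assoc, h, mul_one]
  have h2 : ∀ (i : ℕ) g, ρ ((α ^ i) g) = (mulLeftRight K (T, T') ^ i) (ρ g) := fun i g => by
    induction i with
    | zero => rfl
    | succ i ih => rw [pow_succ', MulAut.mul_apply, h1, ih, pow_succ', End.mul_apply, mulLeftRight_apply]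
  have h3 : ∀ (i : ℕ) g, trace K V (e * ρ ((α ^ i) g)⁻¹) = trace K V (e * ρ g⁻¹) := fun i g => by
    induction i with
    | zero => rfl
    | succ i ih =>
      rw [pow_succ', MulAut.mul_apply, ← map_inv, h1, ← mul_assoc, trace_mul_comm, ← mul_assoc e, ← he, mul_assoc T,
        ← mul_assoc, h', one_mul, ih]
  choose! l hl using hf
  refine ⟨(Nat.card Q : K)⁻¹ * (finrank K V * ∑ g with (α ^ p ^ n) g = g, trace K V (e * ρ g⁻¹) * l g),
    fun k w hw hk => ?_⟩
  have h4 := congrArg (· w) (fourier ρ hS e)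
  have h6 : ∀ (i : ℕ) g, (MulAut.toPerm Q α ^ i) g = (α ^ i) g := fun i g => by rw [← map_pow]; rfl
  have h5 := sum_orbit (α := MulAut.toPerm Q α) (n := n) (by rw [← map_pow, hα, map_one])
    (fun g => trace K V (e * ρ g⁻¹) • ρ g w) fun g _ => by
      have := kill h h' hs (ρ g) (p ^ (n + 1) - 1) 0 k w hw (by omega)
      rw [pow_zero, End.one_apply, ← geom_sum_pow K, LinearMap.sum_apply, LinearMap.sum_apply] at this
      simp only [h6, h3]
      simp only [h2, ← smul_sum, this, smul_zero]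
  simp only [h6] at h5
  simp only [LinearMap.smul_apply, LinearMap.sum_apply] at h4
  rw [← sum_filter_add_sum_filter_not _ fun g => (α ^ p ^ n) g = g, h5, add_zero, ← Nat.card_eq_fintype_card,
    sum_congr rfl fun g hg => by rw [hl g (mem_filter.1 hg).2, LinearMap.smul_apply, End.one_apply, smul_smul],
    ← sum_smul, smul_smul] at h4
  rw [mul_smul, h4, inv_smul_smul₀ hQ]

/-- The critical case of Theorem B. -/
theorem crit (hQ : (Nat.card Q : K) ≠ 0) (hS : ∀ c : End K V, (∀ g, ρ g * c = c * ρ g) → ∃ a : K, c = a • 1)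
    (hα : α ^ p ^ (n + 1) = 1) (hT : T ^ p ^ (n + 1) = 1) (hc : ∀ g, T * ρ g = ρ (α g) * T)
    (hf : ∀ g, (α ^ p ^ n) g = g → ∃ a : K, ρ g = a • 1) (h1 : T ≠ 1) {s : ℕ} (hs : (T - 1) ^ s = 0) :
    p ^ (n + 1) ≤ s + 1 ∧ (s + 1 = p ^ (n + 1) → finrank K V = s) := by
  have key : ∀ s, (T - 1) ^ s = 0 → p ^ (n + 1) ≤ s + 1 := fun s hs => by
    by_contra! hl
    obtain ⟨μ, hμ⟩ := dec hQ hS hα hT hc hf hs (e := T - 1) (by rw [mul_sub, sub_mul, mul_one, one_mul])
    refine h1 (sub_eq_zero.1 (eq_zero_of_ker_sq hs fun w hw => ?_))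
    have e1 := hμ 2 w hw (by omega)
    rw [sq, End.mul_apply, e1, map_smul, e1, smul_smul, smul_eq_zero, mul_self_eq_zero] at hw
    rw [e1, smul_eq_zero.2 hw]
  refine ⟨key s hs, fun e => ?_⟩
  rcases s with _ | s
  · exact absurd e.symm (Nat.one_lt_pow n.succ_ne_zero hp.1.one_lt).ne'
  have h0 : (T - 1) ^ s ≠ 0 := fun e' => by have := key s e'; omega
  refine le_antisymm (finrank_le_of_commutant hs h0 fun c hc' => ?_) (by_contra fun hl => h0 ?_)
  · obtain ⟨μ, hμ⟩ := dec hQ hS hα hT hc hf hs (e := c) (by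
      rwa [mul_sub, sub_mul, mul_one, one_mul, sub_left_inj] at hc')
    exact ⟨μ, fun w hw => hμ 1 w (by rwa [pow_one]) (by omega)⟩
  · refine pow_eq_zero_of_le (m := finrank K V) (by omega) ?_
    simpa [(IsNilpotent.mk _ _ hs).charpoly_eq_X_pow_finrank] using (T - 1).aeval_self_charpoly

end Cfsg.Lib.HH.ModB
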