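import Mathlib

/-!
# Irreducible families of operators; the degree of an irreducible representation of a `q`-group; a Fourier formula
-/

set_option autoImplicit false

namespace Cfsg.Lib.HH.ModB

open Module LinearMap

universe u v

variable {K V : Type*} [Field K] [AddCommGroup V] [Module K V]

/-- No proper nonzero subspace is invariant under all the operators `f i`. -/
def Irr {ι : Type*} (f : ι → End K V) : Prop :=
  ∀ W : Submodule K V, (∀ i, ∀ w ∈ W, f i w ∈ W) → W = ⊥ ∨ W = ⊤

theorem Irr.schur [IsAlgClosed K] [FiniteDimensional K V] [Nontrivial V] {ι : Type*} {f : ι → End K V} (h : Irr f)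
    {c : End K V} (hc : ∀ i, f i * c = c * f i) : ∃ a : K, c = a • 1 := by
  obtain ⟨a, ha⟩ := End.exists_eigenvalue c
  have := (h (c.eigenspace a) fun i w hw => by
    rw [End.mem_eigenspace_iff] at hw ⊢
    rw [← End.mul_apply, ← hc, End.mul_apply, hw, map_smul]).resolve_left (End.hasEigenvalue_iff.1 ha)
  exact ⟨a, LinearMap.ext fun v => End.mem_eigenspace_iff.1 (this.ge trivial)⟩

theorem exists_irr [FiniteDimensional K V] {ι : Type*} (f : ι → End K V) {W : Submodule K V} (hW : W ≠ ⊥)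
    (h : ∀ i, ∀ w ∈ W, f i w ∈ W) :
    ∃ U ≤ W, U ≠ ⊥ ∧ ∃ hU : ∀ i, ∀ u ∈ U, f i u ∈ U, Irr fun i => ((f i).restrict (hU i) : End K U) := by
  obtain ⟨U, ⟨h1, h2, h3⟩, hm⟩ := wellFounded_lt.has_min
    {U : Submodule K V | U ≤ W ∧ U ≠ ⊥ ∧ ∀ i, ∀ u ∈ U, f i u ∈ U} ⟨W, le_rfl, hW, h⟩
  refine ⟨U, h1, h2, h3, fun X hX => or_iff_not_imp_left.2 fun h0 => by_contra fun e => ?_⟩
  refine hm (X.map U.subtype) ⟨(U.map_subtype_le X).trans h1, fun e' => h0 ?_, ?_⟩
    ((U.map_subtype_le X).lt_of_ne fun e' => e ?_)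
  · exact Submodule.map_injective_of_injective U.injective_subtype (e'.trans (Submodule.map_bot _).symm)
  · rintro i _ ⟨x, hx, rfl⟩
    exact ⟨_, hX i x hx, rfl⟩
  · exact Submodule.map_injective_of_injective U.injective_subtype (e'.trans (U.map_subtype_top).symm)

theorem Irr.finrank_eq_one [Nontrivial V] {ι : Type*} {f : ι → End K V} (h : Irr f) (hf : ∀ i, ∃ a : K, f i = a • 1) :
    finrank K V = 1 := by
  obtain ⟨v, hv⟩ := exists_ne (0 : V)
  have := (h (K ∙ v) fun i w hw => by
    obtain ⟨a, e⟩ := hf i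
    rw [e]; exact Submodule.smul_mem _ a hw).resolve_left (by simpa using hv)
  rw [← finrank_top, ← this, finrank_span_singleton hv]

/-- An irreducible representation of a finite `q`-group over an algebraically closed field has `q`-power degree. -/
theorem qpow [IsAlgClosed K] {q : ℕ} [Fact q.Prime] (n : ℕ) : ∀ (Q : Type u) [Group Q] [Finite Q], Nat.card Q = n →
    IsPGroup q Q → ∀ (V : Type v) [AddCommGroup V] [Module K V] [FiniteDimensional K V] [Nontrivial V]
    (ρ : Q →* End K V), Irr ρ → ∃ m, finrank K V = q ^ m := by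
  classical
  induction n using Nat.strong_induction_on with | _ n ih => ?_
  intro Q _ _ hn hQ V _ _ _ _ ρ hρ
  let S := Subgroup.upperCentralSeriesStep ρ.ker
  haveI : S.Normal := by
    unfold S; rw [Subgroup.upperCentralSeriesStep_eq_comap_center]; infer_instance
  have hS : ∀ g ∈ S, ∃ a : K, ρ g = a • 1 := fun g hg => hρ.schur fun h => by
    have : ρ (g * h * g⁻¹ * h⁻¹) = 1 := hg h
    rw [← map_mul, ← map_mul, show g * h = g * h * g⁻¹ * h⁻¹ * (h * g) by group, map_mul ρ _ (h * g), this, one_mul]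
  by_cases e : S = ⊤
  · exact ⟨0, hρ.finrank_eq_one fun g => hS g (e.ge trivial)⟩
  haveI := QuotientGroup.nontrivial_iff.2 e
  haveI := (hQ.to_quotient S).center_nontrivial
  obtain ⟨⟨y, hy⟩, h1⟩ := exists_ne (1 : Subgroup.center (Q ⧸ S))
  obtain ⟨x, rfl⟩ := QuotientGroup.mk_surjective y
  have h2 : ∀ g, ∃ a : K, ρ x * ρ g = a • (ρ g * ρ x) := fun g => by
    obtain ⟨a, ha⟩ := hS (x * g * x⁻¹ * g⁻¹) ((QuotientGroup.eq_one_iff _).1 (by
      simp only [QuotientGroup.mk_mul, QuotientGroup.mk_inv, ← Subgroup.mem_center_iff.1 hy g]; group))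
    exact ⟨a, by rw [← map_mul, show x * g = x * g * x⁻¹ * g⁻¹ * (g * x) by group, map_mul ρ _ (g * x), ha,
      smul_mul_assoc, one_mul, map_mul]⟩
  choose l hl using h2
  have hu : ∀ g, IsUnit (ρ g) := fun g => (Group.isUnit g).map ρ
  have hl0 : ∀ g, l g ≠ 0 := fun g e => ((hu x).mul (hu g)).ne_zero (by rw [hl, e, zero_smul])
  let M : Subgroup Q := (Subgroup.centralizer {ρ.toHomUnits x}).comap ρ.toHomUnits
  have hM : ∀ g, g ∈ M ↔ ρ x * ρ g = ρ g * ρ x := fun g => by
    rw [Subgroup.mem_comap, Subgroup.mem_centralizer_singleton_iff, eq_comm, Units.ext_iff]; rfl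
  have hMt : M ≠ ⊤ := fun e => h1 (Subtype.ext ((QuotientGroup.eq_one_iff _).2 fun g => by
    show ρ (x * g * x⁻¹ * g⁻¹) = 1
    rw [map_mul, map_mul, map_mul, (hM g).1 (e.ge trivial), ← map_mul, ← map_mul, ← map_mul]; simp))
  obtain ⟨a, ha⟩ := End.exists_eigenvalue (ρ x)
  obtain ⟨U, hUW, hU0, hU, hI⟩ := exists_irr (fun g : M => ρ g) (End.hasEigenvalue_iff.1 ha) fun g w hw => by
    rw [End.mem_eigenspace_iff] at hw ⊢
    rw [← End.mul_apply, (hM g).1 g.2, End.mul_apply, hw, map_smul]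
  haveI := Submodule.nontrivial_iff_ne_bot.2 hU0
  have ha0 : a ≠ 0 := fun e => by
    obtain ⟨w, hw⟩ := ha.exists_hasEigenvector
    exact hw.2 ((End.isUnit_iff _).1 (hu x) |>.1 (by rw [hw.apply_eq_smul, e, zero_smul, map_zero]))
  obtain ⟨m, hm⟩ := ih _ (hn ▸ (M.card_le_card_group.lt_of_ne fun e => hMt (M.eq_top_of_card_eq e))) M rfl (hQ.to_subgroup M) U
    (Representation.subrepresentation (ρ.comp M.subtype) U hU) hI
  let D : Q ⧸ M → Submodule K V := fun c => U.map (ρ c.out)
  have hD : iSupIndep D := ((ρ x).eigenspaces_iSupIndep.comp (f := fun c : Q ⧸ M => l c.out * a) fun c d e => by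
    have e := mul_right_cancel₀ ha0 e
    rw [← c.out_eq, ← d.out_eq, Quotient.eq'', QuotientGroup.leftRel_apply, hM]
    refine (hu c.out).mul_left_cancel (smul_right_injective _ (hl0 c.out) ?_)
    beta_reduce
    rw [← mul_assoc, ← smul_mul_assoc, ← hl, mul_assoc, ← map_mul ρ c.out, ← mul_assoc (ρ _), ← map_mul ρ c.out,
      mul_inv_cancel_left, hl, e]).mono fun c => by
      rintro _ ⟨w, hw, rfl⟩
      refine End.mem_eigenspace_iff.2 ?_
      rw [← End.mul_apply, hl, LinearMap.smul_apply, End.mul_apply, End.mem_eigenspace_iff.1 (hUW hw), map_smul, smul_smul]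
  have hT : iSup D = ⊤ := (hρ _ fun g w hw => by
    refine (iSup_le fun c => ?_ : iSup D ≤ (iSup D).comap (ρ g)) hw
    rintro _ ⟨u, hu, rfl⟩
    obtain ⟨h, e⟩ := QuotientGroup.mk_out_eq_mul M (g * c.out)
    refine Submodule.mem_iSup_of_mem (↑(g * c.out)) ⟨_, hU h⁻¹ u hu, ?_⟩
    rw [e, ← End.mul_apply, ← End.mul_apply, ← map_mul, ← map_mul]; simp).resolve_left fun e => hU0 (by
      have := (le_iSup D (1 : Q)).trans e.le
      exact Submodule.map_injective_of_injective ((End.isUnit_iff _).1 (hu _)).1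
        ((le_bot_iff.1 this).trans (Submodule.map_bot _).symm))
  haveI := Fintype.ofFinite (Q ⧸ M)
  obtain ⟨k, hk⟩ := hQ.index M
  refine ⟨k + m, ?_⟩
  rw [← (LinearEquiv.ofBijective (DirectSum.coeLinearMap D)
    (DirectSum.isInternal_submodule_of_iSupIndep_of_iSup_eq_top hD hT)).finrank_eq, finrank_directSum,
    Finset.sum_congr rfl fun c _ => (U.equivMapOfInjective _ ((End.isUnit_iff _).1 (hu _)).1).finrank_eq.symm.trans hm,
    Finset.sum_const, Finset.card_univ, ← Nat.card_eq_fintype_card, ← Subgroup.index, hk, smul_eq_mul, pow_add]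

/-- Fourier inversion in an absolutely irreducible representation. -/
theorem fourier [FiniteDimensional K V] {Q : Type*} [Group Q] [Fintype Q] (ρ : Q →* End K V)
    (hS : ∀ c : End K V, (∀ g, ρ g * c = c * ρ g) → ∃ a : K, c = a • 1) (e : End K V) :
    (finrank K V : K) • ∑ g, trace K V (e * ρ g⁻¹) • ρ g = (Fintype.card Q : K) • e := by
  obtain ⟨t, rfl⟩ := dualTensorHom_bijective.2 e
  induction t using TensorProduct.induction_on with
  | zero => simp
  | add s t hs ht => simp only [map_add, add_mul, add_smul, Finset.sum_add_distrib, smul_add, hs, ht]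
  | tmul φ v =>
    ext w
    obtain ⟨a, ha⟩ := hS (∑ g, ρ g * φ.smulRight w * ρ g⁻¹) fun h => by
      rw [Finset.mul_sum, Finset.sum_mul]
      refine Fintype.sum_equiv (Equiv.mulLeft h) _ _ fun g => ?_
      simp only [Equiv.coe_mulLeft, map_mul, mul_assoc, mul_inv_rev]
      rw [← map_mul ρ h⁻¹, inv_mul_cancel, map_one, mul_one]
    have h1 := congrArg (trace K V) ha
    have h2 := congrArg (· v) ha
    have h3 : ∀ g, trace K V (dualTensorHom K V V (φ ⊗ₜ v) * ρ g⁻¹) = φ (ρ g⁻¹ v) := fun g => by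
      rw [← comp_apply φ, ← trace_smulRight (φ ∘ₗ _)]
      exact congrArg _ (LinearMap.ext fun x => by simp)
    simp only [map_sum, trace_mul_cycle K (ρ _), ← map_mul, inv_mul_cancel, map_one, one_mul, trace_smulRight, map_smul,
      trace_one, Finset.sum_const, Finset.card_univ, nsmul_eq_mul, smul_eq_mul] at h1
    simp only [LinearMap.sum_apply, End.mul_apply, smulRight_apply, map_smul, LinearMap.smul_apply, End.one_apply] at h2
    simp only [h3, LinearMap.smul_apply, LinearMap.sum_apply, h2,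
      dualTensorHom_apply, smul_smul, h1, mul_comm]

end Cfsg.Lib.HH.ModB
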